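import Cfsg.Agent.SmallSylow.DihedralNine.Arith

/-!
The degree equations allow only the orders `720` and `1368`.
-/

set_option autoImplicit false
set_option linter.unusedSectionVars false
set_option maxHeartbeats 1000000

namespace CfsgLib.DihedralNine

namespace Data

open Finset

variable {ι : Type*} (D : Data ι)

/-- The signed degree of a row with `n ≠ 0`. -/
def u (x : ι) : ℤ := D.n x * D.d x

theorem u_spec {k : ℤ} {x : ι} (h : x ∈ D.N k) :
    (D.u x + 4 * (2 * k - 3)) % 9 = 0 ∧ (D.u x).natAbs = D.d x ∧ D.u x ≠ 0 := by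
  obtain ⟨hx, hn, ha, hc⟩ := D.mem_N h
  have h9 := D.nine x hx
  have hd := D.dpos x hx
  rw [u]
  rcases hn with e | e <;> rw [e] at ha hc ⊢ <;> omega

/-- The values of the summands. -/
theorem term_N {k : ℤ} {x : ι} (h : x ∈ D.N k) :
    (D.a x : ℚ) * D.a x * D.c x / D.d x = (k * k * (k - 3) : ℤ) / (D.u x : ℚ) ∧
      ((D.a x * D.c x * D.n x : ℤ) : ℚ) / D.d x = (k * (k - 3) : ℤ) / (D.u x : ℚ) := by
  obtain ⟨hx, hn, ha, hc⟩ := D.mem_N h
  have hd : (D.d x : ℚ) ≠ 0 := by exact_mod_cast (D.dpos x hx).ne'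
  rw [u]
  rcases hn with e | e <;> rw [e] at ha hc ⊢ <;> rw [ha, hc] <;> push_cast <;>
    constructor <;> field_simp <;> ring

theorem R_spec {x : ι} (h : x ∈ D.Rodd ∨ x ∈ D.Reven) : x ∈ D.s ∧ D.n x = 0 ∧ D.c x = D.a x := by
  obtain ⟨hx, h0⟩ : x ∈ D.s ∧ D.n x = 0 := by
    rcases h with h | h <;> exact ⟨(Finset.mem_filter.1 h).1, (Finset.mem_filter.1 h).2.1⟩
  have := D.n_spec hx
  rw [h0] at this
  exact ⟨hx, h0, by omega⟩

/-- A nontrivial row with `n = 0` and odd value. -/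
theorem odd_spec {x : ι} (h : x ∈ D.Rodd) (hne : x ≠ D.o) :
    (D.a x = 1 ∧ D.d x % 9 = 1 ∧ 10 ≤ D.d x) ∨ (D.a x = -1 ∧ D.d x % 9 = 8 ∧ 8 ≤ D.d x) := by
  obtain ⟨hx, -, hc⟩ := D.R_spec (Or.inl h)
  have h9 := D.nine x hx
  have hp := (D.proper x hx hne).1
  rcases D.profile.2.2.1 x h with e | e
  · exact Or.inl ⟨e, by omega, by omega⟩
  · exact Or.inr ⟨e, by omega, by omega⟩

/-- The even row with `n = 0`. -/
theorem even_spec {x : ι} (h : x ∈ D.Reven) :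
    (D.a x = 2 ∧ D.d x % 9 = 2 ∧ 11 ≤ D.d x) ∨ (D.a x = -2 ∧ D.d x % 9 = 7 ∧ 7 ≤ D.d x) := by
  obtain ⟨hx, -, hc⟩ := D.R_spec (Or.inr h)
  have hne : x ≠ D.o := fun e => by
    have := (Finset.mem_filter.1 h).2.2.1
    rw [e, D.o_val.1] at this
    norm_num at this
  have h9 := D.nine x hx
  have hp := (D.proper x hx hne).1
  rcases D.profile.2.2.2 x h with e | e
  · exact Or.inl ⟨e, by omega, by omega⟩
  · exact Or.inr ⟨e, by omega, by omega⟩

/-- The weighted sum. -/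
def W : ℚ := (∑ x ∈ D.N 1, -2 / (D.u x : ℚ)) + (∑ x ∈ D.N 2, -4 / (D.u x : ℚ)) +
  (∑ x ∈ D.Rodd, (D.a x : ℚ) / D.d x) + (∑ x ∈ D.Reven, (D.a x : ℚ) ^ 3 / D.d x)

theorem W_eq : (72 * D.m : ℚ) * D.W = 648 := by
  rw [← D.taac]
  congr 1
  rw [D.split _ fun x _ _ h => by simp [h]]
  obtain ⟨⟨hA, hI⟩, -⟩ := D.profile
  rw [Finset.card_eq_zero] at hA hI
  rw [hA, hI, Finset.sum_empty,
    Finset.sum_eq_zero (s := D.N 0) fun x hx => by rw [(D.term_N hx).1]; simp,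
    Finset.sum_eq_zero (s := D.N 3) fun x hx => by rw [(D.term_N hx).1]; simp,
    Finset.sum_congr (s₁ := D.N 1) rfl fun x hx => (D.term_N hx).1,
    Finset.sum_congr (s₁ := D.N 2) rfl fun x hx => (D.term_N hx).1, W]
  simp only [zero_add, add_zero]
  have eO : ∀ x ∈ D.Rodd, (D.a x : ℚ) * D.a x * D.c x / D.d x = (D.a x : ℚ) / D.d x := by
    intro x hx
    rw [(D.R_spec (Or.inl hx)).2.2]
    rcases D.profile.2.2.1 x hx with e | e <;> rw [e] <;> norm_num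
  have eE : ∀ x ∈ D.Reven, (D.a x : ℚ) * D.a x * D.c x / D.d x = (D.a x : ℚ) ^ 3 / D.d x := by
    intro x hx
    rw [(D.R_spec (Or.inr hx)).2.2]
    ring
  rw [Finset.sum_congr rfl eO, Finset.sum_congr rfl eE]
  norm_num

theorem key_eq : (∑ x ∈ D.N 1, -2 / (D.u x : ℚ)) + (∑ x ∈ D.N 2, -2 / (D.u x : ℚ)) = 0 := by
  rw [← D.sum_acn]
  rw [D.split _ fun x _ _ h => by simp [h]]
  obtain ⟨⟨hA, hI⟩, -⟩ := D.profile
  rw [Finset.card_eq_zero] at hA hI
  rw [hA, hI, Finset.sum_empty,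
    Finset.sum_eq_zero (s := D.N 0) fun x hx => by rw [(D.term_N hx).2]; simp,
    Finset.sum_eq_zero (s := D.N 3) fun x hx => by rw [(D.term_N hx).2]; simp,
    Finset.sum_congr (s₁ := D.N 1) rfl fun x hx => (D.term_N hx).2,
    Finset.sum_congr (s₁ := D.N 2) rfl fun x hx => (D.term_N hx).2,
    Finset.sum_eq_zero (s := D.Rodd) fun x hx => by simp [(D.R_spec (Or.inl hx)).2.1],
    Finset.sum_eq_zero (s := D.Reven) fun x hx => by simp [(D.R_spec (Or.inr hx)).2.1]]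
  norm_num

theorem odd_sum_ge : 1 - ((D.Rodd.card : ℚ) - 1) / 8 ≤ ∑ x ∈ D.Rodd, (D.a x : ℚ) / D.d x := by
  classical
  rw [← Finset.add_sum_erase _ _ D.o_mem_Rodd, D.o_val.1, D.o_val.2.2.2.2]
  have h := Finset.card_nsmul_le_sum (D.Rodd.erase D.o) (fun x => (D.a x : ℚ) / D.d x) (-1 / 8)
    fun x hx => by
      obtain ⟨hne, hx⟩ := Finset.mem_erase.1 hx
      rcases D.odd_spec hx hne with ⟨e, -, h⟩ | ⟨e, -, h⟩ <;> rw [e]
      · exact le_trans (by norm_num) (div_nonneg (by norm_num) (Nat.cast_nonneg _))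
      · have : (8 : ℚ) ≤ D.d x := by exact_mod_cast h
        rw [le_div_iff₀ (by linarith)]
        push_cast
        linarith
  rw [Finset.card_erase_of_mem D.o_mem_Rodd, nsmul_eq_mul,
    Nat.cast_sub (Finset.card_pos.2 ⟨_, D.o_mem_Rodd⟩)] at h
  push_cast at h ⊢
  linarith

/-- A lower bound for the weighted sum bounds the order. -/
theorem m_lt {b : ℚ} {M : ℕ} (hb : 0 < b) (hW : b ≤ D.W) (hM : 9 < b * M) : D.m < M := by
  by_contra hcon
  have hq : (M : ℚ) ≤ D.m := by exact_mod_cast not_lt.1 hcon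
  have := D.W_eq
  nlinarith

theorem eq_ten_of_dvd (h : D.m ∣ 160) : D.m = 10 := by
  have key : ∀ k ∈ Nat.divisors 160, k % 9 = 1 → 1 < k → k = 10 := by decide +kernel
  exact key _ (Nat.mem_divisors.2 ⟨h, by norm_num⟩) D.m_mod D.one_lt

theorem case_three (h1 : (D.N 1).card = 3) (h2 : (D.N 2).card = 0) (hJ : D.Rodd.card = 2)
    (hK : D.Reven.card = 1) : D.m = 10 ∨ D.m = 19 := by
  classical
  obtain ⟨f, hf⟩ := Finset.card_eq_one.1 hK
  rw [Finset.card_eq_zero] at h2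
  have hkey := D.key_eq
  rw [h2, Finset.sum_empty, add_zero] at hkey
  have hW : D.W = (∑ x ∈ D.Rodd, (D.a x : ℚ) / D.d x) + (D.a f : ℚ) ^ 3 / D.d f := by
    rw [W, hkey, h2, hf]
    simp
  have hge := D.odd_sum_ge
  rw [hJ] at hge
  norm_num at hge
  have hfs := D.even_spec (hf ▸ Finset.mem_singleton_self f : f ∈ D.Reven)
  have hne7 : ¬ (D.a f = -2 ∧ D.d f = 7) := by
    rintro ⟨e, e'⟩
    have hle : ∑ x ∈ D.Rodd, (D.a x : ℚ) / D.d x ≤ 11 / 10 := by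
      rw [← Finset.add_sum_erase _ _ D.o_mem_Rodd, D.o_val.1, D.o_val.2.2.2.2]
      have h := Finset.sum_le_card_nsmul (D.Rodd.erase D.o) (fun x => (D.a x : ℚ) / D.d x) (1 / 10)
        fun x hx => by
          obtain ⟨hne, hx⟩ := Finset.mem_erase.1 hx
          rcases D.odd_spec hx hne with ⟨e, -, h⟩ | ⟨e, -, h⟩ <;> rw [e] <;> push_cast
          · exact one_div_le_one_div_of_le (by norm_num) (by exact_mod_cast h)
          · exact le_trans (div_nonpos_of_nonpos_of_nonneg (by norm_num) (Nat.cast_nonneg _))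
              (by norm_num)
      rw [Finset.card_erase_of_mem D.o_mem_Rodd, hJ] at h
      norm_num at h ⊢
      linarith
    have hW' := D.W_eq
    rw [hW, e, e'] at hW'
    push_cast at hW'
    have : (1 : ℚ) ≤ D.m := by exact_mod_cast D.one_lt.le
    nlinarith
  have hf3 : (-1 / 2 : ℚ) ≤ (D.a f : ℚ) ^ 3 / D.d f := by
    rcases hfs with ⟨e, -, h⟩ | ⟨e, h', h⟩ <;> rw [e] <;> push_cast
    · exact le_trans (by norm_num) (div_nonneg (by norm_num) (Nat.cast_nonneg _))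
    · have h16 : 16 ≤ D.d f := by
        by_contra hc
        exact hne7 ⟨e, by omega⟩
      have : (16 : ℚ) ≤ D.d f := by exact_mod_cast h16
      rw [le_div_iff₀ (by linarith)]
      linarith
  have := D.m_lt (b := 3 / 8) (M := 25) (by norm_num) (by rw [hW]; linarith) (by norm_num)
  have := D.m_mod
  have := D.one_lt
  omega

theorem case_one (h1 : (D.N 1).card = 1) (h2 : (D.N 2).card = 1) (hJ : D.Rodd.card = 4)
    (hK : D.Reven.card = 0) : D.m = 10 := by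
  obtain ⟨p, hp⟩ := Finset.card_eq_one.1 h1
  obtain ⟨r, hr⟩ := Finset.card_eq_one.1 h2
  rw [Finset.card_eq_zero] at hK
  have hpm : p ∈ D.N 1 := hp ▸ Finset.mem_singleton_self p
  obtain ⟨hp9, hpd, hp0⟩ := D.u_spec hpm
  have hkey := D.key_eq
  rw [hp, hr, Finset.sum_singleton, Finset.sum_singleton] at hkey
  have hW : D.W = (∑ x ∈ D.Rodd, (D.a x : ℚ) / D.d x) + 2 / (D.u p : ℚ) := by
    rw [W, hp, hr, hK, Finset.sum_singleton, Finset.sum_singleton, Finset.sum_empty]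
    linear_combination 2 * hkey
  have hge := D.odd_sum_ge
  rw [hJ] at hge
  norm_num at hge
  by_cases h5 : D.u p = -5
  · obtain ⟨hps, hn, ha, hc⟩ := D.mem_N hpm
    have hd : D.d p = 5 := by omega
    have hn' : D.n p = -1 := by
      rw [u, hd] at h5
      omega
    refine D.eq_ten_of_dvd ((D.small p hps (fun e => ?_) (Or.inl (by omega)) ?_).2 hd.le)
    · rw [e, D.o_val.2.2.2.2] at hd
      omega
    · intro y hy _ hay hcy _ _
      have := D.n_spec hy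
      have : y ∈ D.N 1 := Finset.mem_filter.2 ⟨hy, by omega, by
        rw [show D.n y = -1 by omega, hay, ha, hn']; norm_num⟩
      rw [hp] at this
      exact Finset.mem_singleton.1 this
  have hu : (-1 / 7 : ℚ) ≤ 2 / (D.u p : ℚ) := by
    rcases (by omega : D.u p ≤ -14 ∨ 0 < D.u p) with h | h
    · have : (D.u p : ℚ) ≤ -14 := by exact_mod_cast h
      rw [le_div_iff_of_neg (by linarith)]
      linarith
    · have : (0 : ℚ) < D.u p := by exact_mod_cast h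
      exact le_trans (by norm_num) (div_nonneg (by norm_num) this.le)
  have := D.m_lt (b := 27 / 56) (M := 19) (by norm_num) (by rw [hW]; linarith) (by norm_num)
  have := D.m_mod
  have := D.one_lt
  omega

/-- The values at the elements of order six are as small as the parity allows. -/
theorem saturate {w a : ι → ℤ} (hw : ∑ x ∈ D.s, w x * w x = 6)
    (hpar : ∀ x ∈ D.s, (2 : ℤ) ∣ w x - a x)
    (hc : ∑ x ∈ D.s, (if a x % 2 = 0 then 0 else 1 : ℤ) = 6) {x : ι} (hx : x ∈ D.s) :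
    (a x % 2 = 0 → w x = 0) ∧ (a x % 2 = 1 → w x = 1 ∨ w x = -1) := by
  have h := (Finset.sum_eq_zero_iff_of_nonneg (s := D.s)
    (f := fun x => w x * w x - (if a x % 2 = 0 then 0 else 1 : ℤ)) fun y hy => by
      split_ifs with h
      · nlinarith [mul_self_nonneg (w y)]
      · have := hpar y hy
        rcases (by omega : w y ≤ -1 ∨ 1 ≤ w y) with h' | h' <;> nlinarith).1
    (by rw [Finset.sum_sub_distrib, hw, hc, sub_self]) x hx
  constructor <;> intro e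
  · rw [if_pos e, sub_zero] at h
    exact mul_self_eq_zero.1 h
  · rw [if_neg (by omega), sub_eq_zero] at h
    exact mul_self_eq_one_iff.1 h

/-- The named rows in the last case. -/
structure Named (p q r t f x1 x2 x3 : ι) : Prop where
  pq : p ≠ q
  rt : r ≠ t
  p_mem : p ∈ D.N 1
  q_mem : q ∈ D.N 1
  r_mem : r ∈ D.N 2
  t_mem : t ∈ D.N 2
  f_mem : f ∈ D.Reven
  x1_mem : x1 ∈ D.Rodd
  x2_mem : x2 ∈ D.Rodd
  x3_mem : x3 ∈ D.Rodd
  x1_ne : x1 ≠ D.o
  x2_ne : x2 ≠ D.o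
  x3_ne : x3 ≠ D.o
  rows_t : ∀ y ∈ D.N 2, y = r ∨ y = t
  rows_f : ∀ y ∈ D.Reven, y = f
  rows_x : ∀ y ∈ D.Rodd, y = D.o ∨ y = x1 ∨ y = x2 ∨ y = x3
  spl : ∀ g : ι → ℤ, (∀ x ∈ D.s, D.n x = 0 → D.a x = 0 → g x = 0) →
      ∑ x ∈ D.s, g x = g p + g q + (g r + g t) + (g D.o + (g x1 + (g x2 + g x3))) + g f
  w_eq : D.W = -2 / (D.u p : ℚ) + -2 / (D.u q : ℚ) + (-4 / (D.u r : ℚ) + -4 / (D.u t : ℚ)) +
      (1 + ((D.a x1 : ℚ) / D.d x1 + ((D.a x2 : ℚ) / D.d x2 + (D.a x3 : ℚ) / D.d x3))) +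
      (D.a f : ℚ) ^ 3 / D.d f
  key : -2 / (D.u p : ℚ) + -2 / (D.u q : ℚ) + (-2 / (D.u r : ℚ) + -2 / (D.u t : ℚ)) = 0

theorem exists_named (h0 : (D.N 0).card = 0) (h1 : (D.N 1).card = 2) (h2 : (D.N 2).card = 2)
    (h3 : (D.N 3).card = 0) (hJ : D.Rodd.card = 4) (hK : D.Reven.card = 1) :
    ∃ p q r t f x1 x2 x3, D.Named p q r t f x1 x2 x3 := by
  classical
  obtain ⟨p, q, hpq, hN1⟩ := Finset.card_eq_two.1 h1
  obtain ⟨r, t, hrt, hN2⟩ := Finset.card_eq_two.1 h2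
  obtain ⟨f, hRe⟩ := Finset.card_eq_one.1 hK
  obtain ⟨x1, x2, x3, h12, h13, h23, hRo⟩ := Finset.card_eq_three.1
    (show (D.Rodd.erase D.o).card = 3 by rw [Finset.card_erase_of_mem D.o_mem_Rodd, hJ])
  obtain ⟨⟨hA, hI⟩, -⟩ := D.profile
  rw [Finset.card_eq_zero] at h0 h3 hA hI
  have hx : ∀ x ∈ ({x1, x2, x3} : Finset ι), x ∈ D.Rodd ∧ x ≠ D.o := fun x hx => by
    rw [← hRo, Finset.mem_erase] at hx
    exact ⟨hx.2, hx.1⟩
  refine ⟨p, q, r, t, f, x1, x2, x3, ⟨hpq, hrt, by simp [hN1], by simp [hN1], by simp [hN2],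
    by simp [hN2], by simp [hRe], (hx x1 (by simp)).1, (hx x2 (by simp)).1, (hx x3 (by simp)).1,
    (hx x1 (by simp)).2, (hx x2 (by simp)).2, (hx x3 (by simp)).2, fun y hy => by simpa [hN2] using hy,
    fun y hy => by simpa [hRe] using hy, fun y hy => ?_, fun g hg => ?_, ?_, ?_⟩⟩
  · by_cases e : y = D.o
    · exact Or.inl e
    · have : y ∈ D.Rodd.erase D.o := Finset.mem_erase.2 ⟨e, hy⟩
      rw [hRo] at this
      exact Or.inr (by simpa using this)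
  · rw [D.split g hg, hA, hI, h0, h3, hN1, hN2, hRe, ← Finset.add_sum_erase _ _ D.o_mem_Rodd, hRo,
      Finset.sum_pair hpq, Finset.sum_pair hrt, Finset.sum_singleton,
      Finset.sum_insert (by simp [h12, h13]), Finset.sum_pair h23]
    simp only [Finset.sum_empty, zero_add, add_zero]
  · rw [W, hN1, hN2, hRe, ← Finset.add_sum_erase _ _ D.o_mem_Rodd, hRo, Finset.sum_pair hpq,
      Finset.sum_pair hrt, Finset.sum_singleton, Finset.sum_insert (by simp [h12, h13]),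
      Finset.sum_pair h23, D.o_val.1, D.o_val.2.2.2.2]
    norm_num
  · have hkey := D.key_eq
    rwa [hN1, hN2, Finset.sum_pair hpq, Finset.sum_pair hrt] at hkey

variable {p q r t f x1 x2 x3 : ι}

/-- The equations in the last case. -/
theorem Named.equations (E : D.Named p q r t f x1 x2 x3) :
    ∃ σ τ X1 X2 X3 Y1 Y2 Y3 : ℤ,
      (X1 = D.a x1 * D.w x1 ∧ X2 = D.a x2 * D.w x2 ∧ X3 = D.a x3 * D.w x3) ∧
      (Y1 = D.a x1 * D.v x1 ∧ Y2 = D.a x2 * D.v x2 ∧ Y3 = D.a x3 * D.v x3) ∧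
      ((X1 = 1 ∨ X1 = -1) ∧ (X2 = 1 ∨ X2 = -1) ∧ (X3 = 1 ∨ X3 = -1)) ∧
      ((Y1 = 1 ∨ Y1 = -1) ∧ (Y2 = 1 ∨ Y2 = -1) ∧ (Y3 = 1 ∨ Y3 = -1)) ∧
      X1 + X2 + X3 = -1 ∧ Y1 + Y2 + Y3 = -1 ∧ X1 * Y1 + X2 * Y2 + X3 * Y3 = -1 ∧
      (σ ^ 2 = 1 ∧ τ ^ 2 = 1) ∧
      1 + X1 * (D.a x1 * D.d x1) + X2 * (D.a x2 * D.d x2) + X3 * (D.a x3 * D.d x3) +
        σ * (D.u p - D.u q) = 0 ∧
      1 + Y1 * (D.a x1 * D.d x1) + Y2 * (D.a x2 * D.d x2) + Y3 * (D.a x3 * D.d x3) +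
        τ * (D.u r - D.u t) = 0 ∧
      1 + D.a x1 * D.d x1 + D.a x2 * D.d x2 + D.a x3 * D.d x3 + D.a f * D.d f +
        (D.u r + D.u t) = 0 ∧
      (D.u p - D.u q) ^ 2 = (D.u r - D.u t) ^ 2 := by
  obtain ⟨-, -, hpm, hqm, hrm, htm, hfm, hx1, hx2, hx3, -, -, -, -, -, -, spl, -, hkey⟩ := E
  obtain ⟨-, hf0, hfc⟩ := D.R_spec (Or.inr hfm)
  obtain ⟨hx1s, -, hc1⟩ := D.R_spec (Or.inl hx1)
  obtain ⟨hx2s, -, hc2⟩ := D.R_spec (Or.inl hx2)
  obtain ⟨hx3s, -, hc3⟩ := D.R_spec (Or.inl hx3)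
  obtain ⟨hps, hpn, hpa, hpc⟩ := D.mem_N hpm
  obtain ⟨hqs, hqn, hqa, hqc⟩ := D.mem_N hqm
  obtain ⟨hrs, hrn, hra, hrc⟩ := D.mem_N hrm
  obtain ⟨hts, htn, hta, htc⟩ := D.mem_N htm
  have ha1 := D.profile.2.2.1 x1 hx1
  have ha2 := D.profile.2.2.1 x2 hx2
  have ha3 := D.profile.2.2.1 x3 hx3
  have hfs := (Finset.mem_filter.1 hfm).1
  have hfe := (Finset.mem_filter.1 hfm).2.2.1
  have hw := fun x (hx : x ∈ D.s) => D.saturate (w := D.w) (a := D.a) D.ww D.wpar (hx := hx) (by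
    rw [spl _ fun x _ _ h => by simp [h], D.o_val.1, if_neg (by omega), if_neg (by omega),
      if_pos (by omega), if_pos (by omega), if_neg (by omega), if_neg (by omega),
      if_neg (by omega), if_neg (by omega), if_pos hfe]
    norm_num)
  have hv := fun x (hx : x ∈ D.s) => D.saturate (w := D.v) (a := D.c) D.vv D.vpar (hx := hx) (by
    rw [spl _ fun x hx h0 h => by
      have := D.n_spec hx
      rw [h0, h] at this
      simp [show D.c x = 0 by omega],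
      D.o_val.2.1, if_pos (by omega), if_pos (by omega),
      if_neg (by omega), if_neg (by omega), if_neg (by omega), if_neg (by omega),
      if_neg (by omega), if_neg (by omega), if_pos (by omega)]
    norm_num)
  have hwp := (hw p hps).2 (by omega)
  have hwq := (hw q hqs).2 (by omega)
  have hwr := (hw r hrs).1 (by omega)
  have hwt := (hw t hts).1 (by omega)
  have hwf := (hw f hfs).1 hfe
  have hvp := (hv p hps).1 (by omega)
  have hvq := (hv q hqs).1 (by omega)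
  have hvr := (hv r hrs).2 (by omega)
  have hvt := (hv t hts).2 (by omega)
  have hvf := (hv f hfs).1 (by omega)
  have vw : ∀ g : ι → ℤ, ∀ x ∈ D.s, D.n x = 0 → D.a x = 0 → g x * D.w x = 0 := fun g x hx _ h => by
    rw [(hw x hx).1 (by omega), mul_zero]
  have vv : ∀ g : ι → ℤ, ∀ x ∈ D.s, D.n x = 0 → D.a x = 0 → g x * D.v x = 0 := fun g x hx h0 h => by
    have := D.n_spec hx
    rw [(hv x hx).1 (by omega), mul_zero]
  have eaw := D.aw
  rw [spl _ (vw D.a), hwr, hwt, hwf, D.o_val.1, D.o_val.2.2.1] at eaw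
  have ecw := D.cw
  rw [spl _ (vw D.c), hwr, hwt, hwf, D.o_val.2.1, D.o_val.2.2.1, hc1, hc2, hc3] at ecw
  have eav := D.av
  rw [spl _ (vv D.a), hvp, hvq, hvf, D.o_val.1, D.o_val.2.2.2.1] at eav
  have ecv := D.cv
  rw [spl _ (vv D.c), hvp, hvq, hvf, D.o_val.2.1, D.o_val.2.2.2.1, hc1, hc2, hc3] at ecv
  have ewv := D.wv
  rw [spl _ (vv D.w), hvp, hvq, hwr, hwt, hwf, D.o_val.2.2.1, D.o_val.2.2.2.1] at ewv
  have edw := D.dw
  rw [spl _ (vw _), hwr, hwt, hwf, D.o_val.2.2.1, D.o_val.2.2.2.2] at edw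
  have edv := D.dv
  rw [spl _ (vv _), hvp, hvq, hvf, D.o_val.2.2.2.1, D.o_val.2.2.2.2] at edv
  have eda := D.da
  rw [spl _ fun x _ _ h => by rw [h, mul_zero], D.o_val.1, D.o_val.2.2.2.2] at eda
  have edn := D.sum_dn
  rw [spl _ fun x _ h _ => by rw [h, mul_zero], hf0, (D.R_spec (Or.inl hx1)).2.1,
    (D.R_spec (Or.inl hx2)).2.1, (D.R_spec (Or.inl hx3)).2.1,
    (D.R_spec (Or.inl D.o_mem_Rodd)).2.1] at edn
  rw [hpa, hqa] at eaw
  rw [hpc, hqc] at ecw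
  rw [hra, hta] at eav
  rw [hrc, htc] at ecv
  rw [hpa, hqa, hra, hta] at eda
  -- the patterns
  obtain ⟨X1, hX1⟩ : ∃ z, z = D.a x1 * D.w x1 := ⟨_, rfl⟩
  obtain ⟨X2, hX2⟩ : ∃ z, z = D.a x2 * D.w x2 := ⟨_, rfl⟩
  obtain ⟨X3, hX3⟩ : ∃ z, z = D.a x3 * D.w x3 := ⟨_, rfl⟩
  obtain ⟨Y1, hY1⟩ : ∃ z, z = D.a x1 * D.v x1 := ⟨_, rfl⟩
  obtain ⟨Y2, hY2⟩ : ∃ z, z = D.a x2 * D.v x2 := ⟨_, rfl⟩
  obtain ⟨Y3, hY3⟩ : ∃ z, z = D.a x3 * D.v x3 := ⟨_, rfl⟩
  have pat : ∀ x ∈ D.s, D.c x = D.a x → (D.a x = 1 ∨ D.a x = -1) →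
      (D.a x * D.w x = 1 ∨ D.a x * D.w x = -1) ∧ (D.a x * D.v x = 1 ∨ D.a x * D.v x = -1) ∧
      D.w x * D.v x = (D.a x * D.w x) * (D.a x * D.v x) ∧
      (D.d x : ℤ) * D.w x = (D.a x * D.w x) * (D.a x * (D.d x : ℤ)) ∧
      (D.d x : ℤ) * D.v x = (D.a x * D.v x) * (D.a x * (D.d x : ℤ)) := by
    intro x hxs hc ha
    have h1 := (hw x hxs).2 (by omega)
    have h2 := (hv x hxs).2 (by omega)
    rcases ha with e | e <;> rw [e] <;>
      refine ⟨by omega, by omega, by ring, by ring, by ring⟩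
  obtain ⟨hX1', hY1', hXY1, hDX1, hDY1⟩ := pat x1 hx1s hc1 ha1
  obtain ⟨hX2', hY2', hXY2, hDX2, hDY2⟩ := pat x2 hx2s hc2 ha2
  obtain ⟨hX3', hY3', hXY3, hDX3, hDY3⟩ := pat x3 hx3s hc3 ha3
  rw [← hX1] at eaw ecw hX1' hXY1 hDX1
  rw [← hX2] at eaw ecw hX2' hXY2 hDX2
  rw [← hX3] at eaw ecw hX3' hXY3 hDX3
  rw [← hY1] at eav ecv hY1' hXY1 hDY1
  rw [← hY2] at eav ecv hY2' hXY2 hDY2
  rw [← hY3] at eav ecv hY3' hXY3 hDY3
  rw [hXY1, hXY2, hXY3] at ewv
  rw [hDX1, hDX2, hDX3] at edw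
  rw [hDY1, hDY2, hDY3] at edv
  have hsx : X1 + X2 + X3 = -1 := by linarith
  have hsy : Y1 + Y2 + Y3 = -1 := by linarith
  have hsw : D.n p * D.w p + D.n q * D.w q = 0 := by linarith
  have hsv : D.n r * D.v r + D.n t * D.v t = 0 := by linarith
  obtain ⟨σ, hσ, hσw⟩ : ∃ σ : ℤ, σ ^ 2 = 1 ∧
      (D.d p : ℤ) * D.w p + (D.d q : ℤ) * D.w q = σ * (D.u p - D.u q) := by
    refine ⟨D.n p * D.w p, ?_, ?_⟩
    · rcases hpn with h | h <;> rcases hwp with h' | h' <;> rw [h, h'] <;> norm_num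
    · have hp2 : D.n p * D.n p = 1 := by rcases hpn with h | h <;> rw [h] <;> norm_num
      have hq2 : D.n q * D.n q = 1 := by rcases hqn with h | h <;> rw [h] <;> norm_num
      rw [u, u]
      linear_combination (-(D.d p : ℤ) * D.w p) * hp2 - (D.d q : ℤ) * D.w q * hq2 +
        (D.n q * (D.d q : ℤ)) * hsw
  obtain ⟨τ, hτ, hτv⟩ : ∃ τ : ℤ, τ ^ 2 = 1 ∧
      (D.d r : ℤ) * D.v r + (D.d t : ℤ) * D.v t = τ * (D.u r - D.u t) := by
    refine ⟨D.n r * D.v r, ?_, ?_⟩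
    · rcases hrn with h | h <;> rcases hvr with h' | h' <;> rw [h, h'] <;> norm_num
    · have hp2 : D.n r * D.n r = 1 := by rcases hrn with h | h <;> rw [h] <;> norm_num
      have hq2 : D.n t * D.n t = 1 := by rcases htn with h | h <;> rw [h] <;> norm_num
      rw [u, u]
      linear_combination (-(D.d r : ℤ) * D.v r) * hp2 - (D.d t : ℤ) * D.v t * hq2 +
        (D.n t * (D.d t : ℤ)) * hsv
  simp only [Nat.cast_one] at edw edv eda
  -- the equations of the signed degrees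
  obtain ⟨hp9, hpd, hp0⟩ := D.u_spec hpm
  obtain ⟨hq9, hqd, hq0⟩ := D.u_spec hqm
  obtain ⟨hr9, hrd, hr0⟩ := D.u_spec hrm
  obtain ⟨ht9, htd, ht0⟩ := D.u_spec htm
  have hsum : D.u p + D.u q + D.u r + D.u t = 0 := by
    rw [u, u, u, u]; linarith
  have hprod : D.u p * D.u q = D.u r * D.u t := by
    have qp : (D.u p : ℚ) ≠ 0 := by exact_mod_cast hp0
    have qq : (D.u q : ℚ) ≠ 0 := by exact_mod_cast hq0
    have qr : (D.u r : ℚ) ≠ 0 := by exact_mod_cast hr0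
    have qt : (D.u t : ℚ) ≠ 0 := by exact_mod_cast ht0
    field_simp at hkey
    have hint : (D.u p + D.u q) * (D.u r * D.u t) + (D.u r + D.u t) * (D.u p * D.u q) = 0 := by
      have : ((D.u p + D.u q : ℤ) : ℚ) * (D.u r * D.u t) + ((D.u r + D.u t : ℤ) : ℚ) *
          (D.u p * D.u q) = 0 := by
        push_cast
        linear_combination (-1 / 2 : ℚ) * hkey
      exact_mod_cast this
    have : (D.u p + D.u q) * (D.u r * D.u t - D.u p * D.u q) = 0 := by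
      linear_combination hint - (D.u p * D.u q) * hsum
    rcases mul_eq_zero.1 this with h | h
    · omega
    · linarith
  have hdiff : (D.u p - D.u q) ^ 2 = (D.u r - D.u t) ^ 2 := by
    linear_combination (D.u p + D.u q - D.u r - D.u t) * hsum - 4 * hprod
  have g1 : 1 + X1 * (D.a x1 * D.d x1) + X2 * (D.a x2 * D.d x2) + X3 * (D.a x3 * D.d x3) +
      σ * (D.u p - D.u q) = 0 := by linarith
  have g2 : 1 + Y1 * (D.a x1 * D.d x1) + Y2 * (D.a x2 * D.d x2) + Y3 * (D.a x3 * D.d x3) +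
      τ * (D.u r - D.u t) = 0 := by linarith
  have g3 : 1 + D.a x1 * D.d x1 + D.a x2 * D.d x2 + D.a x3 * D.d x3 + D.a f * D.d f +
      (D.u r + D.u t) = 0 := by
    rw [u, u]
    rw [u, u, u, u] at hsum
    linarith
  exact ⟨σ, τ, X1, X2, X3, Y1, Y2, Y3, ⟨hX1, hX2, hX3⟩, ⟨hY1, hY2, hY3⟩, ⟨hX1', hX2', hX3'⟩,
    ⟨hY1', hY2', hY3'⟩, hsx, hsy, by linarith, ⟨hσ, hτ⟩, g1, g2, g3, hdiff⟩

set_option maxHeartbeats 6000000 in
/-- The common conclusion, for the rows in a fixed order. -/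
theorem Named.finish (E : D.Named p q r t f x1 x2 x3) {σ τ : ℤ} (hσ : σ ^ 2 = 1) (hτ : τ ^ 2 = 1)
    (hdiff : (D.u p - D.u q) ^ 2 = (D.u r - D.u t) ^ 2) {j k l : ι}
    (hjR : j ∈ D.Rodd ∧ j ≠ D.o) (hkR : k ∈ D.Rodd ∧ k ≠ D.o) (hlR : l ∈ D.Rodd ∧ l ≠ D.o)
    (hall : ∀ y ∈ D.Rodd, y = D.o ∨ y = j ∨ y = k ∨ y = l)
    (hjw : D.a j * D.w j = 1) (hjv : D.a j * D.v j = -1) (hkw : D.a k * D.w k = -1)
    (hkv : D.a k * D.v k = 1) (hlw : D.a l * D.w l = -1) (hlv : D.a l * D.v l = -1)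
    (e1 : 1 + D.a j * D.d j - D.a k * D.d k - D.a l * D.d l + σ * (D.u p - D.u q) = 0)
    (e2 : 1 - D.a j * D.d j + D.a k * D.d k - D.a l * D.d l + τ * (D.u r - D.u t) = 0)
    (e3 : 1 + D.a j * D.d j + D.a k * D.d k + D.a l * D.d l + D.a f * D.d f +
      (D.u r + D.u t) = 0)
    (e4 : (72 * D.m : ℚ) * (1 + (D.a j : ℚ) / D.d j + (D.a k : ℚ) / D.d k + (D.a l : ℚ) / D.d l +
      (D.a f : ℚ) ^ 3 / D.d f - 2 * (1 / (D.u r : ℚ) + 1 / (D.u t : ℚ))) = 648) :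
    D.m = 10 := by
  obtain ⟨-, -, -, -, hrm, htm, hfm, -, -, -, -, -, -, hrows_t, hrows_f, -, -, -, -⟩ := E
  obtain ⟨hrs, hrn, hra, hrc⟩ := D.mem_N hrm
  obtain ⟨hts, htn, hta, htc⟩ := D.mem_N htm
  obtain ⟨hr9, hrd, hr0⟩ := D.u_spec hrm
  obtain ⟨ht9, htd, ht0⟩ := D.u_spec htm
  have hfs := (Finset.mem_filter.1 hfm).1
  have hfe := (Finset.mem_filter.1 hfm).2.2.1
  have hfc := (D.R_spec (Or.inr hfm)).2.2
  have sP : ∀ x, x ∈ D.Rodd ∧ x ≠ D.o → (D.a x * D.d x) % 9 = 1 ∧ D.a x * D.d x ≠ 1 ∧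
      (D.a x * D.d x).natAbs = D.d x ∧
      (1 : ℚ) / ((D.a x * D.d x : ℤ) : ℚ) = (D.a x : ℚ) / D.d x := by
    rintro x ⟨hxR, hxo⟩
    have hd : (D.d x : ℚ) ≠ 0 := by exact_mod_cast (D.dpos x (D.R_spec (Or.inl hxR)).1).ne'
    rcases D.odd_spec hxR hxo with ⟨e, h, h'⟩ | ⟨e, h, h'⟩ <;> rw [e] <;>
      refine ⟨by omega, by omega, by omega, ?_⟩ <;> push_cast <;> field_simp
  obtain ⟨hj9, hj1, hjd, hjq⟩ := sP j hjR
  obtain ⟨hk9, hk1, hkd, hkq⟩ := sP k hkR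
  obtain ⟨hl9, hl1, hld, hlq⟩ := sP l hlR
  have hjk : D.a j * D.d j = D.a k * D.d k := by
    have h : (1 + D.a j * D.d j - D.a k * D.d k - D.a l * D.d l) ^ 2 =
        (1 - D.a j * D.d j + D.a k * D.d k - D.a l * D.d l) ^ 2 := by
      rw [show 1 + D.a j * D.d j - D.a k * D.d k - D.a l * D.d l = -(σ * (D.u p - D.u q)) by
        linarith, show 1 - D.a j * D.d j + D.a k * D.d k - D.a l * D.d l =
        -(τ * (D.u r - D.u t)) by linarith, neg_sq, neg_sq, mul_pow, mul_pow, hσ, hτ, hdiff]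
    have h' : (D.a j * D.d j - D.a k * D.d k) * (1 - D.a l * D.d l) = 0 := by
      nlinarith only [h]
    rcases mul_eq_zero.1 h' with h | h <;> omega
  have hsq : (1 - D.a l * D.d l) ^ 2 = (D.u r - D.u t) ^ 2 := by
    rw [show 1 - D.a l * D.d l = -(τ * (D.u r - D.u t)) by linarith, neg_sq, mul_pow, hτ, one_mul]
  have hF : (D.a f * D.d f) % 18 = 4 ∧ D.a f * D.d f ≠ 4 := by
    rcases D.even_spec hfm with ⟨e, h, h'⟩ | ⟨e, h, h'⟩ <;> rw [e] <;> omega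
  have hF16 : (16 : ℚ) / ((D.a f * D.d f : ℤ) : ℚ) = (D.a f : ℚ) ^ 3 / D.d f := by
    have hd : (D.d f : ℚ) ≠ 0 := by exact_mod_cast (D.dpos f hfs).ne'
    rcases D.even_spec hfm with ⟨e, -, -⟩ | ⟨e, -, -⟩ <;> rw [e] <;> push_cast <;>
      field_simp <;> norm_num
  have hfo : f ≠ D.o := fun e => by rw [e, D.o_val.1] at hfe; omega
  have hne : ∀ {x : ι}, x ∈ D.N 2 → x ≠ D.o := fun {x} h e => by
    obtain ⟨-, hn, ha, -⟩ := D.mem_N h
    rw [e, D.o_val.1] at ha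
    omega
  -- uniqueness of the rows with small degree
  have uR : ∀ x, (x = j ∨ x = k ∨ x = l) → ∀ y ∈ D.s, D.a y = D.a x → D.c y = D.c x →
      D.w y = D.w x → D.v y = D.v x → y = x := by
    intro x hx' y hy ea ec ew ev
    obtain ⟨hxR, hxo⟩ : x ∈ D.Rodd ∧ x ≠ D.o := by
      rcases hx' with rfl | rfl | rfl
      exacts [hjR, hkR, hlR]
    obtain ⟨hxs, hxn, hxc⟩ := D.R_spec (Or.inl hxR)
    have := D.n_spec hy
    have hyR : y ∈ D.Rodd := Finset.mem_filter.2 ⟨hy, by omega, by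
      rw [ea]; exact (Finset.mem_filter.1 hxR).2.2⟩
    have hw' : D.a y * D.w y = D.a x * D.w x := by rw [ea, ew]
    have hv' : D.a y * D.v y = D.a x * D.v x := by rw [ea, ev]
    rcases eq_or_ne y D.o with rfl | hyo
    · rw [D.o_val.1, D.o_val.2.2.1] at hw'
      rw [D.o_val.1, D.o_val.2.2.2.1] at hv'
      rcases hx' with rfl | rfl | rfl <;> omega
    · have hy3 := (hall y hyR).resolve_left hyo
      rcases hx' with rfl | rfl | rfl <;> rcases hy3 with rfl | rfl | rfl <;>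
        first | rfl | omega
  have uN : ∀ x ∈ D.N 2, ∀ y ∈ D.s, D.d y = D.d x → D.a y = D.a x → D.c y = D.c x →
      D.u r ≠ D.u t → y = x := by
    intro x hx' y hy ed ea ec hne'
    obtain ⟨hxs, hxn, hxa, hxc⟩ := D.mem_N hx'
    have h3 := D.n_spec hy
    have hn : D.n y = D.n x := by omega
    have hyN : y ∈ D.N 2 := Finset.mem_filter.2 ⟨hy, by omega, by
      rw [hn, ea, hxa]; rcases hxn with h | h <;> rw [h] <;> norm_num⟩
    have hu' : D.u y = D.u x := by rw [u, u, hn, ed]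
    replace hx' := hrows_t x hx'
    replace hyN := hrows_t y hyN
    rcases hx' with rfl | rfl <;> rcases hyN with rfl | rfl <;>
      first | rfl | exact absurd hu' hne' | exact absurd hu'.symm hne'
  have hrt'' : D.u r ≠ D.u t := fun e => by
    rw [e, sub_self, zero_pow (by norm_num), pow_eq_zero_iff (by norm_num)] at hsq
    omega
  have hfive : (D.u r = 5 ∨ D.u t = 5) → D.m ∣ 160 := by
    rintro (h | h)
    · exact (D.small r hrs (hne hrm) (Or.inl (by omega)) fun y hy h1 h2 h3 _ _ =>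
        uN r hrm y hy h1 h2 h3 hrt'').2 (by omega)
    · exact (D.small t hts (hne htm) (Or.inl (by omega)) fun y hy h1 h2 h3 _ _ =>
        uN t htm y hy h1 h2 h3 hrt'').2 (by omega)
  have hsmall : (D.a j * D.d j = -8 ∨ D.a l * D.d l = -8 ∨ D.a f * D.d f = -14 ∨
      D.u r = 5 ∨ D.u t = 5) → D.m ∣ 2 ^ 12 * 175 := by
    rintro (h | h | h | h)
    · exact (D.small j (D.R_spec (Or.inl hjR.1)).1 hjR.2
        (Or.inl (fun e => by rw [e] at h; omega)) fun y hy _ h2 h3 h4 h5 =>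
          uR j (Or.inl rfl) y hy h2 h3 h4 h5).1 (by omega)
    · exact (D.small l (D.R_spec (Or.inl hlR.1)).1 hlR.2
        (Or.inl (fun e => by rw [e] at h; omega)) fun y hy _ h2 h3 h4 h5 =>
          uR l (Or.inr (Or.inr rfl)) y hy h2 h3 h4 h5).1 (by omega)
    · refine (D.small f hfs hfo (Or.inl (fun e => by rw [e] at h; omega))
        fun y hy _ h2 h3 _ _ => ?_).1 (by
          rcases D.even_spec hfm with ⟨e, -, -⟩ | ⟨e, -, -⟩ <;> rw [e] at h <;> omega)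
      have := D.n_spec hy
      have hyE : y ∈ D.Reven := Finset.mem_filter.2 ⟨hy, by omega, by
        rw [h2]; exact hfe, fun e => by rw [← h2, e] at h; omega⟩
      exact (hrows_f y hyE).trans (hrows_f f hfm).symm
    · exact dvd_trans (hfive h) (by norm_num)
  refine eight_solve hj9 hj1 hl9 hl1 (by omega) (by omega) hF.1 hF.2 ?_ hsq ?_ ?_ ?_ ?_
    D.one_lt D.m_mod ?_ hsmall hfive
  · linarith
  · rw [hjd]; exact D.ddvd j (D.R_spec (Or.inl hjR.1)).1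
  · rw [hld]; exact D.ddvd l (D.R_spec (Or.inl hlR.1)).1
  · rw [hrd]; exact D.ddvd r hrs
  · rw [htd]; exact D.ddvd t hts
  · rw [show (2 : ℚ) / ((D.a j * D.d j : ℤ) : ℚ) = 2 * (1 / ((D.a j * D.d j : ℤ) : ℚ)) by ring,
      hjq, hlq, hF16, ← e4]
    have : (D.a j : ℚ) / D.d j = (D.a k : ℚ) / D.d k := by rw [← hjq, ← hkq, hjk]
    linear_combination (72 * D.m : ℚ) * this

theorem case_eight (h0 : (D.N 0).card = 0) (h1 : (D.N 1).card = 2) (h2 : (D.N 2).card = 2)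
    (h3 : (D.N 3).card = 0) (hJ : D.Rodd.card = 4) (hK : D.Reven.card = 1) : D.m = 10 := by
  obtain ⟨p, q, r, t, f, x1, x2, x3, E⟩ := D.exists_named h0 h1 h2 h3 hJ hK
  obtain ⟨σ, τ, X1, X2, X3, Y1, Y2, Y3, ⟨hX1, hX2, hX3⟩, ⟨hY1, hY2, hY3⟩, ⟨hX1', hX2', hX3'⟩,
    ⟨hY1', hY2', hY3'⟩, hsx, hsy, ewv, ⟨hσ, hτ⟩, g1, g2, g3, hdiff⟩ := Named.equations D E
  have k1 : x1 ∈ D.Rodd ∧ x1 ≠ D.o := ⟨E.x1_mem, E.x1_ne⟩
  have k2 : x2 ∈ D.Rodd ∧ x2 ≠ D.o := ⟨E.x2_mem, E.x2_ne⟩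
  have k3 : x3 ∈ D.Rodd ∧ x3 ≠ D.o := ⟨E.x3_mem, E.x3_ne⟩
  have g4 : (72 * D.m : ℚ) * (1 + (D.a x1 : ℚ) / D.d x1 + (D.a x2 : ℚ) / D.d x2 +
      (D.a x3 : ℚ) / D.d x3 + (D.a f : ℚ) ^ 3 / D.d f -
      2 * (1 / (D.u r : ℚ) + 1 / (D.u t : ℚ))) = 648 := by
    rw [← D.W_eq, E.w_eq]
    linear_combination (-(72 * D.m : ℚ)) * E.key
  rcases hX1' with rfl | rfl <;> rcases hX2' with rfl | rfl <;> rcases hX3' with rfl | rfl <;>
    first
    | omega
    | (rcases hY1' with rfl | rfl <;> rcases hY2' with rfl | rfl <;> rcases hY3' with rfl | rfl <;>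
        first
        | omega
        | exact Named.finish D E hσ hτ hdiff k1 k2 k3 E.rows_x hX1.symm hY1.symm hX2.symm hY2.symm
            hX3.symm hY3.symm (by linarith) (by linarith) (by linarith) (by linear_combination g4)
        | exact Named.finish D E hσ hτ hdiff k1 k3 k2 (fun y hy => by have := E.rows_x y hy; tauto)
            hX1.symm hY1.symm hX3.symm hY3.symm hX2.symm hY2.symm
            (by linarith) (by linarith) (by linarith) (by linear_combination g4)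
        | exact Named.finish D E hσ hτ hdiff k2 k1 k3 (fun y hy => by have := E.rows_x y hy; tauto)
            hX2.symm hY2.symm hX1.symm hY1.symm hX3.symm hY3.symm
            (by linarith) (by linarith) (by linarith) (by linear_combination g4)
        | exact Named.finish D E hσ hτ hdiff k2 k3 k1 (fun y hy => by have := E.rows_x y hy; tauto)
            hX2.symm hY2.symm hX3.symm hY3.symm hX1.symm hY1.symm
            (by linarith) (by linarith) (by linarith) (by linear_combination g4)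
        | exact Named.finish D E hσ hτ hdiff k3 k1 k2 (fun y hy => by have := E.rows_x y hy; tauto)
            hX3.symm hY3.symm hX1.symm hY1.symm hX2.symm hY2.symm
            (by linarith) (by linarith) (by linarith) (by linear_combination g4)
        | exact Named.finish D E hσ hτ hdiff k3 k2 k1 (fun y hy => by have := E.rows_x y hy; tauto)
            hX3.symm hY3.symm hX2.symm hY2.symm hX1.symm hY1.symm
            (by linarith) (by linarith) (by linarith) (by linear_combination g4))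

theorem swap_N : D.swap.N 1 = D.N 2 := by
  ext x
  simp only [N, Finset.mem_filter]
  refine and_congr_right fun hx => ?_
  have h1 := D.n_spec hx
  have h2 : D.c x - D.a x = 3 * D.swap.n x := D.swap.n_spec hx
  show (D.swap.n x ≠ 0 ∧ D.swap.n x * D.c x = 1) ↔ _
  have hn : D.swap.n x = -D.n x := by omega
  rw [hn]
  rcases D.n_cases hx with h | h | h <;> rw [h] at h1 ⊢ <;> omega

/-- Only two orders survive. -/
theorem main : D.m = 10 ∨ D.m = 19 := by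
  obtain ⟨-, hcases, -, -⟩ := D.profile
  rcases hcases with ⟨-, h1, h2, -, hJ, hK⟩ | ⟨-, h1, h2, -, hJ, hK⟩ | ⟨-, -, h2, -, -, -⟩ |
    ⟨h0, h1, h2, h3, hJ, hK⟩
  · exact Or.inl (D.case_one h1 h2 hJ hK)
  · exact D.case_three h1 h2 hJ hK
  · obtain ⟨-, hcases', -, -⟩ := D.swap.profile
    rw [D.swap_N, h2] at hcases'
    rcases hcases' with ⟨-, h, -⟩ | ⟨-, -, h2', -, hJ', hK'⟩ | ⟨-, h, -⟩ | ⟨-, h, -⟩
    · omega
    · exact D.swap.case_three (by rw [D.swap_N, h2]) h2' hJ' hK'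
    · omega
    · omega
  · exact Or.inl (D.case_eight h0 h1 h2 h3 hJ hK)

end Data

end CfsgLib.DihedralNine
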