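import Cfsg.Agent.SmallSylow.DihedralNine.Setup
import Cfsg.Agent.SmallSylow.DihedralNine.Cases
import Cfsg.Agent.Char.ClassProducts
import Cfsg.Agent.Char.Galois
import Cfsg.Agent.Char.GaloisTwist
import Cfsg.Agent.Char.Central
import Cfsg.Agent.Char.Kernel
import Cfsg.Agent.LinearPBound.Schur
import Cfsg.Prelude.Def_Transfer

/-!
The character values at the elements of order three and six, and the resulting order.
-/

set_option autoImplicit false
set_option linter.style.haveILetI false
set_option linter.unusedSectionVars false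

namespace CfsgLib.DihedralNine

open Subgroup CfsgLib.Char
open scoped ComplexConjugate

universe u

variable {G : Type u} [Group G] [Finite G]

namespace Setup

variable (D : Setup G)

local notation "N₀" => normalizer (D.T : Set G)

/-- An involution fixing the coordinate vector `p`. -/
structure Fixer (p : P9) where
  h : G
  f : P9 → P9
  mem : h ∈ N₀
  sq : h * h = 1
  act : ∀ q, h * D.e q * h⁻¹ = D.e (f q)
  fix : f p = p
  comm : Commute h (D.rho * D.rho)
  ne : p ≠ 0
  moves : ∃ q, f q ≠ q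
  count : Nat.card {q : P9 // f q = q} = 3

variable {D}

/-- The fixer of `(1, 0)`. -/
noncomputable def fixA (D : Setup G) : D.Fixer (1, 0) where
  h := D.sigma
  f q := (q.1, -q.2)
  mem := D.gen_mem_N.2
  sq := D.sigma_sq
  act := D.sigma_act
  fix := by decide
  comm := D.sigma_z
  ne := by decide
  moves := ⟨(0, 1), by decide⟩
  count := by rw [Nat.card_eq_fintype_card]; decide

/-- The fixer of `(1, 1)`. -/
noncomputable def fixC (D : Setup G) : D.Fixer (1, 1) where
  h := D.rho * D.sigma
  f q := (q.2, q.1)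
  mem := mul_mem D.gen_mem_N.1 D.gen_mem_N.2
  sq := D.rs_sq
  act q := by
    rw [show D.rho * D.sigma * D.e q * (D.rho * D.sigma)⁻¹ =
      D.rho * (D.sigma * D.e q * D.sigma⁻¹) * D.rho⁻¹ by group, D.sigma_act, D.rho_act]
    simp [rot]
  fix := by decide
  comm := D.rs_z
  ne := by decide
  moves := ⟨(0, 1), by decide⟩
  count := by rw [Nat.card_eq_fintype_card]; decide

variable {p : P9} (F : D.Fixer p)

/-- The element of order six in the section of `e p`. -/
def Fixer.u : G := D.e p * F.h

theorem Fixer.not_mem : F.h ∉ D.T := fun h => by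
  obtain ⟨q, hq⟩ := F.moves
  refine hq (D.e_inj ?_)
  rw [← F.act q, D.T_comm h (D.e_mem q), mul_inv_cancel_right]

theorem Fixer.commute : Commute F.h (D.e p) :=
  mul_inv_eq_iff_eq_mul.1 ((F.act p).trans (congrArg D.e F.fix))

theorem Fixer.pow_four : F.u ^ 4 = D.e p := by
  have h2 : F.h ^ 2 = 1 := by rw [pow_two, F.sq]
  rw [Fixer.u, F.commute.symm.mul_pow, show F.h ^ 4 = (F.h ^ 2) ^ 2 by rw [← pow_mul], h2, one_pow,
    mul_one, pow_succ, D.e_cube, one_mul]

theorem Fixer.pow_six : F.u ^ 6 = 1 := by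
  rw [Fixer.u, F.commute.symm.mul_pow, show F.h ^ 6 = (F.h ^ 2) ^ 3 by rw [← pow_mul],
    show D.e p ^ 6 = (D.e p ^ 3) ^ 2 by rw [← pow_mul], D.e_cube, pow_two F.h, F.sq]
  simp

theorem Fixer.cube_ne : F.u ^ 3 ≠ 1 := fun h => by
  rw [Fixer.u, F.commute.symm.mul_pow, D.e_cube, one_mul, pow_succ, pow_two, F.sq, one_mul] at h
  exact F.not_mem (h ▸ one_mem _)

theorem Fixer.not_conj_e (q : P9) : ¬ IsConj F.u (D.e q) := fun h => by
  obtain ⟨g, hg⟩ := isConj_iff.1 h
  have h3 := D.e_cube q
  rw [← hg, conj_pow, conj_eq_one_iff] at h3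
  exact F.cube_ne h3

theorem Fixer.not_conj_one : ¬ IsConj F.u 1 := fun h =>
  F.not_conj_e 0 (D.e_zero ▸ h)

/-- The centraliser of `e p` consists of two cosets of `T`. -/
theorem Fixer.mem_centralizer {g : G} (hg : g ∈ centralizer ({D.e p} : Set G)) :
    ∃ q : P9, g = D.e q ∨ g = D.e q * F.h := by
  classical
  let φ : P9 × Bool → ↥(centralizer ({D.e p} : Set G)) := fun x =>
    ⟨D.e x.1 * if x.2 then F.h else 1, mem_centralizer_singleton_iff.2 (by
      split_ifs
      · exact ((show Commute (D.e x.1) (D.e p) from D.e_comm _ _).mul_left F.commute).eq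
      · rw [mul_one]; exact D.e_comm _ _)⟩
  have hinj : Function.Injective φ := by
    intro x y h
    have h' : D.e x.1 * (if x.2 then F.h else 1) = D.e y.1 * (if y.2 then F.h else 1) :=
      congrArg Subtype.val h
    rcases x with ⟨x, a⟩
    rcases y with ⟨y, b⟩
    cases a <;> cases b <;> simp only [Bool.false_eq_true, if_false, if_true, mul_one] at h'
    · exact Prod.ext (D.e_inj h') rfl
    · refine absurd ?_ F.not_mem
      rw [show F.h = (D.e y)⁻¹ * D.e x by rw [h']; group]
      exact mul_mem (inv_mem (D.e_mem _)) (D.e_mem _)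
    · refine absurd ?_ F.not_mem
      rw [show F.h = (D.e x)⁻¹ * D.e y by rw [← h']; group]
      exact mul_mem (inv_mem (D.e_mem _)) (D.e_mem _)
    · exact Prod.ext (D.e_inj (mul_right_cancel h')) rfl
  obtain ⟨⟨q, b⟩, hq⟩ := ((Nat.bijective_iff_injective_and_card φ).2 ⟨hinj, by
    rw [D.card_centralizer F.ne]; simp⟩).2 ⟨g, hg⟩
  refine ⟨q, ?_⟩
  have h : D.e q * (if b then F.h else 1) = g := congrArg Subtype.val hq
  cases b
  · exact Or.inl (by simpa using h.symm)
  · exact Or.inr (by simpa using h.symm)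

theorem Fixer.card_centralizer_u : Nat.card (centralizer ({F.u} : Set G)) = 6 := by
  classical
  have hfix : ∀ q, F.f q = q → Commute F.h (D.e q) := fun q hq =>
    mul_inv_eq_iff_eq_mul.1 ((F.act q).trans (congrArg D.e hq))
  let ψ : {q : P9 // F.f q = q} × Bool → ↥(centralizer ({F.u} : Set G)) := fun x =>
    ⟨D.e x.1.1 * if x.2 then F.h else 1, mem_centralizer_singleton_iff.2 (by
      have c1 : Commute (D.e x.1.1) F.u :=
        (show Commute (D.e x.1.1) (D.e p) from D.e_comm _ _).mul_right (hfix _ x.1.2).symm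
      have c2 : Commute F.h F.u := F.commute.mul_right (Commute.refl _)
      split_ifs
      · exact (c1.mul_left c2).eq
      · rw [mul_one]; exact c1.eq)⟩
  have hbij : Function.Bijective ψ := by
    refine ⟨fun x y h => ?_, ?_⟩
    · have h' : D.e x.1.1 * (if x.2 then F.h else 1) = D.e y.1.1 * (if y.2 then F.h else 1) :=
        congrArg Subtype.val h
      rcases x with ⟨⟨x, hx⟩, a⟩
      rcases y with ⟨⟨y, hy⟩, b⟩
      cases a <;> cases b <;> simp only [Bool.false_eq_true, if_false, if_true, mul_one] at h'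
      · exact Prod.ext (Subtype.ext (D.e_inj h')) rfl
      · refine absurd ?_ F.not_mem
        rw [show F.h = (D.e y)⁻¹ * D.e x by rw [h']; group]
        exact mul_mem (inv_mem (D.e_mem _)) (D.e_mem _)
      · refine absurd ?_ F.not_mem
        rw [show F.h = (D.e x)⁻¹ * D.e y by rw [← h']; group]
        exact mul_mem (inv_mem (D.e_mem _)) (D.e_mem _)
      · exact Prod.ext (Subtype.ext (D.e_inj (mul_right_cancel h'))) rfl
    · rintro ⟨g, hg⟩
      have hgu : Commute g F.u := mem_centralizer_singleton_iff.1 hg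
      have hge : Commute g (D.e p) := F.pow_four ▸ hgu.pow_right 4
      obtain ⟨q, hq⟩ := F.mem_centralizer (mem_centralizer_singleton_iff.2 hge.eq)
      have hgh : Commute g F.h := by
        have := (hge.inv_right).mul_right hgu
        rwa [Fixer.u, inv_mul_cancel_left] at this
      have hqh : Commute F.h (D.e q) := by
        rcases hq with rfl | rfl
        · exact hgh.symm
        · have := ((Commute.refl F.h).symm.mul_right (Commute.refl F.h)).symm
          have e : D.e q = D.e q * F.h * F.h := by rw [mul_assoc, F.sq, mul_one]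
          rw [e]
          exact (hgh.symm.mul_right (Commute.refl F.h))
      have hfq : F.f q = q := D.e_inj ((F.act q).symm.trans (mul_inv_eq_iff_eq_mul.2 hqh.eq))
      rcases hq with rfl | rfl
      · exact ⟨(⟨q, hfq⟩, false), Subtype.ext (by simp [ψ])⟩
      · exact ⟨(⟨q, hfq⟩, true), Subtype.ext (by simp [ψ])⟩
  rw [← Nat.card_congr (Equiv.ofBijective ψ hbij), Nat.card_prod, F.count]
  simp

theorem Fixer.isConj_inv : IsConj F.u F.u⁻¹ := by
  refine isConj_iff.2 ⟨D.rho * D.rho, ?_⟩
  have h1 : D.rho * D.rho * D.e p * (D.rho * D.rho)⁻¹ = (D.e p)⁻¹ := by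
    rw [show D.rho * D.rho * D.e p * (D.rho * D.rho)⁻¹ =
      D.rho * (D.rho * D.e p * D.rho⁻¹) * D.rho⁻¹ by group, D.rho_act, D.rho_act, ← D.e_neg]
    simp [rot]
    rfl
  have h2 : D.rho * D.rho * F.h * (D.rho * D.rho)⁻¹ = F.h :=
    mul_inv_eq_iff_eq_mul.2 F.comm.symm.eq
  calc D.rho * D.rho * F.u * (D.rho * D.rho)⁻¹
      = (D.rho * D.rho * D.e p * (D.rho * D.rho)⁻¹) * (D.rho * D.rho * F.h * (D.rho * D.rho)⁻¹) := by
        rw [Fixer.u]; group
    _ = F.h * (D.e p)⁻¹ := by rw [h1, h2, F.commute.inv_right.eq]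
    _ = F.u⁻¹ := by rw [Fixer.u, mul_inv_rev, inv_eq_of_mul_eq_one_right F.sq]

theorem Fixer.not_conj_u {q : P9} (F' : D.Fixer q) (hpq : cls p ≠ cls q) : ¬ IsConj F.u F'.u := by
  intro h
  obtain ⟨g, hg⟩ := isConj_iff.1 h
  have h4 := congrArg (· ^ 4) hg
  simp only [conj_pow, F.pow_four, F'.pow_four] at h4
  exact hpq ((D.isConj_iff_cls F.ne).1 (isConj_iff.2 ⟨g, h4⟩)).2

theorem six_dvd (F : D.Fixer p) : 6 ∣ Nat.card G := by
  have := F.card_centralizer_u
  exact this ▸ card_subgroup_dvd_card _

theorem value_real {χ : G → ℂ} (hχ : Cfsg.IsCharacter G χ) {x : G} (hx : IsConj x x⁻¹) :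
    conj (χ x) = χ x := by
  rw [← IsCharacter.apply_inv hχ]
  exact (IsClassFunction.apply_eq_of_isConj (IsCharacter.isClassFunction hχ) hx).symm

theorem Fixer.value_int {χ : G → ℂ} (hχ : Cfsg.IsCharacter G χ) : ∃ m : ℤ, χ F.u = m := by
  refine IsCharacter.exists_int_apply hχ fun t ht => ?_
  have h6 := six_dvd F
  have hmod : t % 6 = 1 ∨ t % 6 = 5 := by
    have h2 : ¬ 2 ∣ t := fun h => Nat.not_coprime_of_dvd_of_dvd (by norm_num) h
      ((show 2 ∣ 6 by norm_num).trans h6) ht
    have h3 : ¬ 3 ∣ t := fun h => Nat.not_coprime_of_dvd_of_dvd (by norm_num) h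
      ((show 3 ∣ 6 by norm_num).trans h6) ht
    omega
  have he : F.u ^ t = F.u ^ (t % 6) := by
    conv_lhs => rw [← Nat.mod_add_div t 6, pow_add, pow_mul, F.pow_six, one_pow, mul_one]
  rw [he]
  rcases hmod with h | h <;> rw [h]
  · rw [pow_one]
  · rw [show F.u ^ 5 = F.u⁻¹ from eq_inv_of_mul_eq_one_left (by rw [← pow_succ]; exact F.pow_six)]
    exact (IsClassFunction.apply_eq_of_isConj (IsCharacter.isClassFunction hχ) F.isConj_inv).symm

theorem value_int_e (F : D.Fixer p) {χ : G → ℂ} (hχ : Cfsg.IsCharacter G χ) :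
    ∃ m : ℤ, χ (D.e p) = m := by
  refine IsCharacter.exists_int_apply hχ fun t ht => ?_
  have h3 : ¬ 3 ∣ t := fun h => Nat.not_coprime_of_dvd_of_dvd (by norm_num) h
    ((show 3 ∣ 6 by norm_num).trans (six_dvd F)) ht
  have he : D.e p ^ t = D.e p ^ (t % 3) := by
    conv_lhs => rw [← Nat.mod_add_div t 3, pow_add, pow_mul, D.e_cube, one_pow, mul_one]
  rw [he]
  rcases (by omega : t % 3 = 1 ∨ t % 3 = 2) with h | h <;> rw [h]
  · rw [pow_one]
  · rw [show D.e p ^ 2 = (D.e p)⁻¹ from eq_inv_of_mul_eq_one_left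
      (by rw [← pow_succ]; exact D.e_cube p)]
    exact (IsClassFunction.apply_eq_of_isConj (IsCharacter.isClassFunction hχ) D.isConj_inv).symm

theorem Fixer.value_parity {χ : G → ℂ} (hχ : Cfsg.IsCharacter G χ) {a w : ℤ}
    (ha : χ (D.e p) = a) (hw : χ F.u = w) : (2 : ℤ) ∣ w - a := by
  have hε : IsPrimitiveRoot (-1 : ℂ) 2 := IsPrimitiveRoot.neg_one 0 (by norm_num)
  obtain ⟨ω, hω, h⟩ := IsGeneralized.exists_apply_mul_sub (IsCharacter.isGeneralized hχ)
    Nat.prime_two hε (x := F.h) (by rw [pow_two, F.sq]) F.commute.eq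
  rw [F.commute.eq, show D.e p * F.h = F.u from rfl, ha, hw, ← Int.cast_sub] at h
  exact int_dvd_of_one_sub_mul Nat.prime_two hε hω h

theorem value_congr {χ : G → ℂ} (hχ : Cfsg.IsCharacter G χ) {a c : ℤ}
    (ha : χ (D.e (1, 0)) = a) (hc : χ (D.e (1, 1)) = c) : (3 : ℤ) ∣ a - c := by
  have hε := Complex.isPrimitiveRoot_exp 3 (by norm_num)
  obtain ⟨ω, hω, h⟩ := IsGeneralized.exists_apply_mul_sub (IsCharacter.isGeneralized hχ)
    Nat.prime_three hε (D.e_cube (0, 1)) (D.e_comm (0, 1) (1, 0))
  rw [← D.e_add, show ((0, 1) : P9) + (1, 0) = (1, 1) from by decide, ha, hc, ← Int.cast_sub] at h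
  have := int_dvd_of_one_sub_mul Nat.prime_three hε hω h
  rw [← neg_sub]
  exact dvd_neg.2 (by exact_mod_cast this)

theorem value_nine {χ : G → ℂ} (hχ : Cfsg.IsCharacter G χ) {a c : ℤ} {d : ℕ} (hd : χ 1 = d)
    (ha : χ (D.e (1, 0)) = a) (hc : χ (D.e (1, 1)) = c) : (9 : ℤ) ∣ d + 4 * a + 4 * c := by
  classical
  haveI : Fintype ↥D.T := Fintype.ofFinite _
  obtain ⟨k, hk⟩ := IsCharacter.exists_classInner_eq_natCast (IsCharacter.restrict hχ D.T)
    isIrrCharacter_one
  have hb : Function.Bijective (fun q : P9 => (⟨D.e q, D.e_mem q⟩ : ↥D.T)) :=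
    ⟨fun x y e => D.e_inj (congrArg Subtype.val e), fun x => by
      obtain ⟨q, hq⟩ := D.e_surj x x.2
      exact ⟨q, Subtype.ext hq⟩⟩
  rw [classInner_def, D.card_T] at hk
  have hsum : ∑ g : ↥D.T, χ (g : G) * conj (1 : ℂ) = (d : ℂ) + 4 * a + 4 * c := by
    rw [← (Equiv.ofBijective _ hb).sum_comp]
    have hval : ∀ q : P9, χ (D.e q) * conj (1 : ℂ) =
        if q = 0 then (d : ℂ) else if cls q then (a : ℂ) else (c : ℂ) := by
      intro q
      rw [map_one, mul_one]
      by_cases hq : q = 0
      · subst hq; rw [D.e_zero, hd, if_pos rfl]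
      rw [if_neg hq]
      cases hcl : cls q
      · rw [if_neg (by simp), ← hc]
        exact (IsClassFunction.apply_eq_of_isConj (IsCharacter.isClassFunction hχ)
          ((D.isConj_iff_cls (p := (1, 1)) (by decide)).2 ⟨hq, by rw [hcl]; decide⟩)).symm
      · rw [if_pos rfl, ← ha]
        exact (IsClassFunction.apply_eq_of_isConj (IsCharacter.isClassFunction hχ)
          ((D.isConj_iff_cls (p := (1, 0)) (by decide)).2 ⟨hq, by rw [hcl]; decide⟩)).symm
    simp only [Equiv.ofBijective_apply, hval]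
    rw [Finset.sum_ite, Finset.sum_ite]
    simp only [Finset.sum_const, nsmul_eq_mul, Finset.filter_filter]
    rw [show (Finset.univ.filter fun q : P9 => q = 0).card = 1 by decide,
      show (Finset.univ.filter fun q : P9 => ¬q = 0 ∧ cls q = true).card = 4 by decide,
      show (Finset.univ.filter fun q : P9 => ¬q = 0 ∧ ¬cls q = true).card = 4 by decide]
    push_cast
    ring
  rw [hsum, inv_mul_eq_iff_eq_mul₀ (by norm_num)] at hk
  refine ⟨k, ?_⟩
  exact_mod_cast hk

/-- Products of two conjugates of `e px` equal to `e pz`, the classes being different. -/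
theorem count_inside {px pz : P9} (hx : px ≠ 0) (hz : pz ≠ 0) (hne : cls px ≠ cls pz)
    (F : D.Fixer pz) :
    Nat.card {w : G × G // IsConj (D.e px) w.1 ∧ IsConj (D.e px) w.2 ∧ w.1 * w.2 = D.e pz} =
      Nat.card {w : P9 × P9 // (w.1 ≠ 0 ∧ cls px = cls w.1) ∧ (w.2 ≠ 0 ∧ cls px = cls w.2) ∧
        w.1 + w.2 = pz} := by
  refine (Nat.card_congr (Equiv.ofBijective
    (fun w : {w : P9 × P9 // (w.1 ≠ 0 ∧ cls px = cls w.1) ∧ (w.2 ≠ 0 ∧ cls px = cls w.2) ∧
        w.1 + w.2 = pz} =>
      (⟨(D.e w.1.1, D.e w.1.2), (D.isConj_iff_cls hx).2 w.2.1,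
        (D.isConj_iff_cls hx).2 w.2.2.1, by rw [← D.e_add, w.2.2.2]⟩ :
        {w : G × G // IsConj (D.e px) w.1 ∧ IsConj (D.e px) w.2 ∧ w.1 * w.2 = D.e pz}))
    ⟨fun v w e => ?_, ?_⟩)).symm
  · have h := congrArg Subtype.val e
    simp only [Prod.mk.injEq] at h
    exact Subtype.ext (Prod.ext (D.e_inj h.1) (D.e_inj h.2))
  rintro ⟨⟨X, Y⟩, h1, h2, h3⟩
  dsimp only at h1 h2 h3
  have cube : ∀ {x : G}, IsConj (D.e px) x → x ^ 3 = 1 := fun {x} h => by
    obtain ⟨c, rfl⟩ := isConj_iff.1 h
    rw [conj_pow, D.e_cube, mul_one, mul_inv_cancel]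
  have ne1 : Y ≠ 1 := fun e => by
    rw [e] at h2
    exact hx (D.e_eq_one.1 (isConj_one_left.1 h2))
  have hXY : D.e pz * Y⁻¹ = X := by rw [← h3, mul_inv_cancel_right]
  obtain ⟨g, hgz, hgy⟩ := D.common_conj (D.e_cube pz) (y := Y⁻¹)
    (by rw [inv_pow, cube h2, inv_one]) (by rw [hXY]; exact cube h1)
    (fun e => hz (D.e_eq_one.1 e)) (fun e => ne1 (inv_eq_one.1 e))
    (fun e => hne (((D.isConj_iff_cls hx).1 ((D.isConj_inv (p := px)).trans
      (IsConj.trans (by
        obtain ⟨c, hc⟩ := isConj_iff.1 h2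
        exact isConj_iff.2 ⟨c, by rw [← conj_inv, hc]⟩) e.symm))).2))
  have hcomm : Commute Y (D.e pz) := by
    have h : Commute (g * Y⁻¹ * g⁻¹) (g * D.e pz * g⁻¹) := D.T_comm hgy hgz
    have := ((Commute.conj_iff g).1 h).inv_left
    rwa [inv_inv] at this
  have hYN : Y ∈ N₀ := D.loc _ (D.e_mem pz) (fun e => hz (D.e_eq_one.1 e))
    (mem_centralizer_singleton_iff.2 hcomm.eq)
  obtain ⟨cy, hcy⟩ := D.e_surj Y (D.mem_T_of_mem_N (cube h2) hYN)
  have hX : X = D.e (pz - cy) := by rw [← hXY, ← hcy, ← D.e_neg, ← D.e_add, sub_eq_add_neg]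
  refine ⟨⟨(pz - cy, cy), (D.isConj_iff_cls hx).1 (hX ▸ h1), (D.isConj_iff_cls hx).1 (hcy.symm ▸ h2),
    sub_add_cancel pz cy⟩, ?_⟩
  exact Subtype.ext (Prod.ext hX.symm hcy)

theorem triple_eq (D : Setup G) {px pz : P9} (hx : px ≠ 0) (hz : pz ≠ 0) (hne : cls px ≠ cls pz)
    (F : D.Fixer pz)
    (hm : Nat.card {w : P9 × P9 // (w.1 ≠ 0 ∧ cls px = cls w.1) ∧ (w.2 ≠ 0 ∧ cls px = cls w.2) ∧
        w.1 + w.2 = pz} = 2) :
    (Nat.card G : ℂ) * ∑ χ ∈ irrFinset G, χ (D.e px) * χ (D.e px) * χ (D.e pz) / χ 1 = 648 := by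
  classical
  haveI := Fintype.ofFinite G
  have h := card_class_products (D.e px) (D.e px) (D.e pz)
  rw [count_inside hx hz hne F, hm] at h
  have hreal : ∀ χ ∈ irrFinset G, conj (χ (D.e pz)) = χ (D.e pz) := fun χ hχ =>
    value_real (IsIrrCharacter.isCharacter (mem_irrFinset.1 hχ)) D.isConj_inv
  rw [Finset.sum_congr rfl fun χ hχ => by rw [hreal χ hχ]] at h
  have h1 : (Nat.card {x : G // IsConj (D.e px) x} : ℂ) * 18 = Nat.card G := by
    exact_mod_cast (D.card_centralizer hx) ▸ card_conj_class_mul_card_centralizer (D.e px)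
  have hG : (Nat.card G : ℂ) ≠ 0 := by simp
  generalize hS : ∑ χ ∈ irrFinset G, χ (D.e px) * χ (D.e px) * χ (D.e pz) / χ 1 = S at h ⊢
  field_simp at h
  have e1 : (Nat.card G : ℂ) * (2 * (18 * 18)) = (Nat.card G : ℂ) * ((Nat.card G : ℂ) * S) := by
    push_cast at h
    linear_combination (18 * 18 : ℂ) * h +
      (S * ((Nat.card {x : G // IsConj (D.e px) x} : ℂ) * 18 + Nat.card G)) * h1
  have := mul_left_cancel₀ hG e1
  rw [← this]; norm_num

/-- A column relation. -/
theorem column {x y : G} {f g : (G → ℂ) → ℤ} (hf : ∀ χ ∈ irrFinset G, χ x = f χ)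
    (hg : ∀ χ ∈ irrFinset G, χ y = g χ) :
    (¬ IsConj x y → ∑ χ ∈ irrFinset G, f χ * g χ = 0) ∧
      (IsConj x y → ∑ χ ∈ irrFinset G, f χ * g χ = Nat.card (centralizer ({x} : Set G))) := by
  classical
  have h := sum_irr_mul_conj x y
  have e : ∑ χ ∈ irrFinset G, χ x * conj (χ y) = ((∑ χ ∈ irrFinset G, f χ * g χ : ℤ) : ℂ) := by
    push_cast
    exact Finset.sum_congr rfl fun χ hχ => by rw [hf χ hχ, hg χ hχ, map_intCast]
  rw [e] at h
  constructor <;> intro hc
  · rw [if_neg hc] at h
    exact_mod_cast h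
  · rw [if_pos hc] at h
    exact_mod_cast h

/-- A character equal to its degree at a nontrivial element of a simple group is trivial. -/
theorem eq_one_of_apply [IsSimpleGroup G] {χ : G → ℂ} (hχ : Cfsg.IsIrrCharacter G χ) {g : G}
    (hg : g ≠ 1) (h : χ g = χ 1) : χ = fun _ => 1 := by
  classical
  haveI := Fintype.ofFinite G
  have hc := IsIrrCharacter.isCharacter hχ
  have htop : kerSubgroup hc = ⊤ := by
    refine ((kerSubgroup_normal hc).eq_bot_or_eq_top).resolve_left fun e => hg ?_
    have : g ∈ kerSubgroup hc := h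
    rwa [e, mem_bot] at this
  have hconst : ∀ x, χ x = χ 1 := fun x =>
    (mem_kerSubgroup hc x).1 (htop ▸ mem_top x)
  obtain ⟨d, hd0, hd⟩ := IsIrrCharacter.exists_degree hχ
  have h1 := IsIrrCharacter.classInner_self hχ
  rw [classInner_def] at h1
  simp only [hconst, hd, Complex.conj_natCast, Finset.sum_const, Finset.card_univ,
    nsmul_eq_mul, ← Nat.card_eq_fintype_card] at h1
  rw [inv_mul_cancel_left₀ (by simp)] at h1
  have : d * d = 1 := by exact_mod_cast h1
  funext x
  rw [hconst x, hd, Nat.eq_one_of_mul_eq_one_right this, Nat.cast_one]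

/-- A faithful rational character bounds the order. -/
theorem factorization_le [IsSimpleGroup G] {χ : G → ℂ} (hχ : Cfsg.IsIrrCharacter G χ)
    (hne : χ ≠ fun _ => 1) {n : ℕ} (hn : χ 1 = n)
    (hrat : ∀ (g : G) (t : ℕ), t.Coprime (Nat.card G) → χ (g ^ t) = χ g) (q : ℕ) (hq : q.Prime) :
    (Nat.card G).factorization q ≤ ∑ i ∈ Finset.range (n + 1), n / ((q - 1) * q ^ i) := by
  haveI := Fact.mk hq
  obtain ⟨R⟩ := (inferInstance : Nonempty (Sylow q G))
  have hc := IsIrrCharacter.isCharacter hχ
  have h := LinearPBound.card_factorization_le (R := ↥(R : Subgroup G)) hq R.2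
    (IsCharacter.restrict hc R) (fun g hg => by
      by_contra hg1
      exact hne (eq_one_of_apply hχ (fun e => hg1 (Subtype.ext e)) hg)) hn ?_
  · rwa [R.card_eq_multiplicity, hq.factorization_pow, Finsupp.single_eq_same] at h
  · intro g t ht
    have hcop : (Nat.card ↥(R : Subgroup G)).Coprime (R : Subgroup G).index := by
      rw [R.card_eq_multiplicity]
      exact Nat.Coprime.pow_left _ (hq.coprime_iff_not_dvd.2 (Sylow.not_dvd_index R))
    obtain ⟨t', ht1, ht2⟩ := Nat.chineseRemainder hcop t 1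
    have hG : t'.Coprime (Nat.card G) := by
      rw [← card_mul_index (R : Subgroup G)]
      refine Nat.Coprime.mul_right ?_ ?_
      · rw [Nat.coprime_iff_gcd_eq_one, ht1.gcd_eq]
        exact ht
      · rw [Nat.coprime_iff_gcd_eq_one, ht2.gcd_eq, Nat.gcd_one_left]
    have e : ((g : G)) ^ t' = ((g ^ t : ↥(R : Subgroup G)) : G) := by
      rw [← SubmonoidClass.coe_pow]
      congr 1
      exact pow_eq_pow_iff_modEq.2 (ht1.of_dvd (orderOf_dvd_natCard g))
    show χ ((g ^ t : ↥(R : Subgroup G)) : G) = χ g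
    rw [← e]
    exact hrat _ _ hG

/-- The order of a simple group with this local structure. -/
theorem order_cases [IsSimpleGroup G] (D : Setup G) :
    Nat.card G = 720 ∨ Nat.card G = 1368 := by
  classical
  obtain ⟨m, hm⟩ : ∃ m, (normalizer (D.T : Set G)).index = m := ⟨_, rfl⟩
  have hG : Nat.card G = 72 * m := by
    rw [← card_mul_index (normalizer (D.T : Set G)), D.card_N, hm]
  have hmod : m % 9 = 1 := hm ▸ D.index_mod
  have hT1 : D.T ≠ ⊥ := fun e => by
    have := D.e_mem (1, 0)
    rw [e, mem_bot, D.e_eq_one] at this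
    exact absurd this (by decide)
  have hm1 : 1 < m := by
    rcases (by omega : m = 1 ∨ 1 < m) with h | h
    · exfalso
      have hN : normalizer (D.T : Set G) = ⊤ := index_eq_one.1 (hm.trans h)
      have hn : D.T.Normal := normalizer_eq_top_iff.1 hN
      rcases hn.eq_bot_or_eq_top with e | e
      · exact hT1 e
      · have := congrArg (fun H : Subgroup G => Nat.card ↥H) e
        simp only [D.card_T, card_top, hG, h] at this
        omega
    · exact h
  set s := irrFinset G
  have hirr : ∀ χ ∈ s, Cfsg.IsIrrCharacter G χ := fun χ hχ => mem_irrFinset.1 hχ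
  have hchar : ∀ χ ∈ s, Cfsg.IsCharacter G χ := fun χ hχ => IsIrrCharacter.isCharacter (hirr χ hχ)
  choose! a ha using fun χ hχ => value_int_e D.fixA (hchar χ hχ)
  choose! c hc using fun χ hχ => value_int_e D.fixC (hchar χ hχ)
  choose! w hw using fun χ hχ => D.fixA.value_int (hchar χ hχ)
  choose! v hv using fun χ hχ => D.fixC.value_int (hchar χ hχ)
  choose! d hd0 hd using fun χ hχ => IsIrrCharacter.exists_degree (hirr χ hχ)
  have hdz : ∀ χ ∈ s, χ (1 : G) = ((fun χ => (d χ : ℤ)) χ : ℤ) := fun χ hχ => by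
    rw [hd χ hχ]; simp
  have e10 : ((1, 0) : P9) ≠ 0 := by decide
  have e11 : ((1, 1) : P9) ≠ 0 := by decide
  have hac : ¬ IsConj (D.e (1, 0)) (D.e (1, 1)) := fun h =>
    absurd ((D.isConj_iff_cls e10).1 h).2 (by decide)
  have hne1 : ∀ {q : P9}, q ≠ 0 → ¬ IsConj (1 : G) (D.e q) := fun {q} hq h =>
    hq (D.e_eq_one.1 (isConj_one_right.1 h))
  let o : G → ℂ := fun _ => 1
  have ho : o ∈ s := mem_irrFinset.2 isIrrCharacter_one
  have hone : ∀ z : ℤ, (1 : ℂ) = z → z = 1 := fun z h => Int.cast_eq_one.1 h.symm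
  have hcube : ∀ χ ∈ s, χ ≠ o → ∀ q : P9, q ≠ 0 → ∀ z : ℤ, χ (D.e q) = z → z ≠ d χ := by
    intro χ hχ hne q hq z hz e
    refine hne (eq_one_of_apply (hirr χ hχ) (fun h => hq (D.e_eq_one.1 h)) ?_)
    rw [hz, hd χ hχ, e, Int.cast_natCast]
  have hTeq : ∀ {px pz : P9}, px ≠ 0 → pz ≠ 0 → cls px ≠ cls pz → D.Fixer pz →
      Nat.card {w : P9 × P9 // (w.1 ≠ 0 ∧ cls px = cls w.1) ∧ (w.2 ≠ 0 ∧ cls px = cls w.2) ∧
        w.1 + w.2 = pz} = 2 → ∀ f g : (G → ℂ) → ℤ, (∀ χ ∈ s, χ (D.e px) = f χ) →
      (∀ χ ∈ s, χ (D.e pz) = g χ) →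
      (72 * m : ℚ) * ∑ χ ∈ s, (f χ : ℚ) * f χ * g χ / d χ = 648 := by
    intro px pz hx hz hne F hcard f g hf hg
    have h := D.triple_eq hx hz hne F hcard
    rw [hG, Finset.sum_congr rfl fun χ hχ => by rw [hf χ hχ, hg χ hχ, hd χ hχ]] at h
    have h' : (((72 * m : ℚ) * ∑ χ ∈ s, (f χ : ℚ) * f χ * g χ / d χ : ℚ) : ℂ) = ((648 : ℚ) : ℂ) := by
      push_cast at h ⊢
      exact h
    exact_mod_cast h'
  let E : DihedralNine.Data (G → ℂ) :=
    { s := s
      o := o
      a := a
      c := c
      w := w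
      v := v
      d := d
      m := m
      o_mem := ho
      o_val := ⟨hone _ (ha o ho), hone _ (hc o ho), hone _ (hw o ho), hone _ (hv o ho), by
        exact Nat.cast_eq_one.1 (show ((d o : ℕ) : ℂ) = 1 from (hd o ho).symm)⟩
      aa := by
        rw [(column ha ha).2 (IsConj.refl _), D.card_centralizer e10]; norm_num
      cc := by
        rw [(column hc hc).2 (IsConj.refl _), D.card_centralizer e11]; norm_num
      ac := (column ha hc).1 hac
      ww := by rw [(column hw hw).2 (IsConj.refl _), D.fixA.card_centralizer_u]; norm_num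
      vv := by rw [(column hv hv).2 (IsConj.refl _), D.fixC.card_centralizer_u]; norm_num
      aw := (column ha hw).1 fun h => D.fixA.not_conj_e _ h.symm
      cw := (column hc hw).1 fun h => D.fixA.not_conj_e _ h.symm
      av := (column ha hv).1 fun h => D.fixC.not_conj_e _ h.symm
      cv := (column hc hv).1 fun h => D.fixC.not_conj_e _ h.symm
      wv := (column hw hv).1 (D.fixA.not_conj_u D.fixC (by decide))
      da := (column hdz ha).1 (hne1 e10)
      dc := (column hdz hc).1 (hne1 e11)
      dw := (column hdz hw).1 fun h => D.fixA.not_conj_one h.symm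
      dv := (column hdz hv).1 fun h => D.fixC.not_conj_one h.symm
      congr3 := fun χ hχ => value_congr (hchar χ hχ) (ha χ hχ) (hc χ hχ)
      wpar := fun χ hχ => D.fixA.value_parity (hchar χ hχ) (ha χ hχ) (hw χ hχ)
      vpar := fun χ hχ => D.fixC.value_parity (hchar χ hχ) (hc χ hχ) (hv χ hχ)
      nine := fun χ hχ => value_nine (hchar χ hχ) (hd χ hχ) (ha χ hχ) (hc χ hχ)
      dpos := hd0
      proper := fun χ hχ hne => ⟨hcube χ hχ hne _ e10 _ (ha χ hχ), hcube χ hχ hne _ e11 _ (hc χ hχ)⟩
      taac := hTeq e10 e11 (by decide) D.fixC (by rw [Nat.card_eq_fintype_card]; decide) a c ha hc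
      tacc := by
        have h := hTeq e11 e10 (by decide) D.fixA (by rw [Nat.card_eq_fintype_card]; decide) c a hc ha
        rw [← h]
        exact congrArg _ (Finset.sum_congr rfl fun χ _ => by ring)
      m_mod := hmod
      one_lt := hm1
      ddvd := fun χ hχ => hG ▸ IsIrrCharacter.degree_dvd_card (hirr χ hχ) (hd χ hχ)
      small := fun χ hχ hne _ huniq => by
        have hrat : ∀ (g : G) (t : ℕ), t.Coprime (Nat.card G) → χ (g ^ t) = χ g := by
          intro g t ht
          obtain ⟨σ, hσ⟩ := exists_ringEquiv_pow (Nat.card_pos (α := G)) ht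
          have hψ : (fun x => σ (χ x)) ∈ s :=
            mem_irrFinset.2 (IsIrrCharacter.map_ringEquiv (hirr χ hχ) σ)
          have heq : (fun x => σ (χ x)) = χ := huniq _ hψ
            (by
              have := hd _ hψ
              rw [hd χ hχ, map_natCast] at this
              exact_mod_cast this.symm)
            (by
              have := ha _ hψ
              rw [ha χ hχ, map_intCast] at this
              exact_mod_cast this.symm)
            (by
              have := hc _ hψ
              rw [hc χ hχ, map_intCast] at this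
              exact_mod_cast this.symm)
            (by
              have := hw _ hψ
              rw [hw χ hχ, map_intCast] at this
              exact_mod_cast this.symm)
            (by
              have := hv _ hψ
              rw [hv χ hχ, map_intCast] at this
              exact_mod_cast this.symm)
          rw [← IsCharacter.map_eq_pow_card (hchar χ hχ) σ hσ g]
          exact congrFun heq g
        obtain ⟨n, hn⟩ : ∃ n, d χ = n := ⟨_, rfl⟩
        have hbound : ∀ q : ℕ, q.Prime → (Nat.card G).factorization q ≤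
            ∑ i ∈ Finset.range (n + 1), n / ((q - 1) * q ^ i) := fun q hq =>
          factorization_le (hirr χ hχ) hne (hn ▸ hd χ hχ) hrat q hq
        have hm0 : m ≠ 0 := by omega
        have h3 : m.factorization 3 = 0 := Nat.factorization_eq_zero_of_not_dvd (by omega)
        have hfac : ∀ q, (Nat.card G).factorization q = (72 : ℕ).factorization q + m.factorization q :=
          fun q => by rw [hG, Nat.factorization_mul (by norm_num) hm0]; rfl
        have h72 : (72 : ℕ).factorization 2 = 3 := by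
          rw [show (72 : ℕ) = 2 ^ 3 * 9 by norm_num, Nat.factorization_mul (by norm_num) (by norm_num)]
          simp only [Finsupp.coe_add, Pi.add_apply]
          rw [Nat.prime_two.factorization_pow, Finsupp.single_eq_same,
            Nat.factorization_eq_zero_of_not_dvd (show ¬ 2 ∣ 9 by norm_num)]
        have big : ∀ k, k ≤ n → n ≤ 8 → ∀ q : ℕ, k + 1 < q → ∀ i, k / ((q - 1) * q ^ i) = 0 := by
          intro k _ _ q hq i
          exact Nat.div_eq_of_lt (lt_of_lt_of_le (by omega)
            (Nat.le_mul_of_pos_right _ (pow_pos (by omega) i)))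
        constructor <;> intro hn8 <;> rw [hn] at hn8
        · rw [← Nat.factorization_le_iff_dvd hm0 (by norm_num)]
          intro q
          by_cases hq : q.Prime
          swap
          · rw [Nat.factorization_eq_zero_of_not_prime _ hq]; exact Nat.zero_le _
          rcases eq_or_ne q 3 with rfl | hq3
          · rw [h3]; exact Nat.zero_le _
          have hb := hbound q hq
          rw [hfac] at hb
          by_cases h8 : n + 1 < q
          · rw [Finset.sum_eq_zero fun i _ => big n le_rfl hn8 q h8 i] at hb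
            omega
          have hq9 : q ≤ 9 := by omega
          have key : ∀ n ≤ 8, ∀ q ≤ 9, q.Prime → q ≠ 3 →
              (∑ i ∈ Finset.range (n + 1), n / ((q - 1) * q ^ i)) ≤
                (if q = 2 then 15 else if q = 5 then 2 else 1) := by decide +kernel
          have hk := hb.trans (key n hn8 q hq9 hq hq3)
          have e : ((2 : ℕ) ^ 12 * 175).factorization q = if q = 2 then 12 else if q = 5 then 2
              else if q = 7 then 1 else 0 := by
            rw [show (2 : ℕ) ^ 12 * 175 = 2 ^ 12 * 5 ^ 2 * 7 ^ 1 by norm_num,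
              Nat.factorization_mul (by norm_num) (by norm_num),
              Nat.factorization_mul (by norm_num) (by norm_num), Nat.prime_two.factorization_pow,
              Nat.Prime.factorization_pow (by norm_num : Nat.Prime 5),
              Nat.Prime.factorization_pow (by norm_num : Nat.Prime 7)]
            simp only [Finsupp.coe_add, Pi.add_apply, Finsupp.single_apply]
            split_ifs <;> omega
          rw [e]
          have hq' : q = 2 ∨ q = 5 ∨ q = 7 := by
            interval_cases q <;> first | omega | exact absurd hq (by norm_num)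
          rcases hq' with rfl | rfl | rfl <;> norm_num at hk ⊢ <;> omega
        · rw [← Nat.factorization_le_iff_dvd hm0 (by norm_num)]
          intro q
          by_cases hq : q.Prime
          swap
          · rw [Nat.factorization_eq_zero_of_not_prime _ hq]; exact Nat.zero_le _
          rcases eq_or_ne q 3 with rfl | hq3
          · rw [h3]; exact Nat.zero_le _
          have hb := hbound q hq
          rw [hfac] at hb
          by_cases h8 : n + 1 < q
          · rw [Finset.sum_eq_zero fun i _ => big n le_rfl (by omega) q h8 i] at hb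
            omega
          have hq6 : q ≤ 6 := by omega
          have key : ∀ n ≤ 5, ∀ q ≤ 6, q.Prime → q ≠ 3 →
              (∑ i ∈ Finset.range (n + 1), n / ((q - 1) * q ^ i)) ≤
                (if q = 2 then 8 else 1) := by decide +kernel
          have hk := hb.trans (key n hn8 q hq6 hq hq3)
          have e : (160 : ℕ).factorization q = if q = 2 then 5 else if q = 5 then 1 else 0 := by
            rw [show (160 : ℕ) = 2 ^ 5 * 5 ^ 1 by norm_num,
              Nat.factorization_mul (by norm_num) (by norm_num), Nat.prime_two.factorization_pow,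
              Nat.Prime.factorization_pow (by norm_num : Nat.Prime 5)]
            simp only [Finsupp.coe_add, Pi.add_apply, Finsupp.single_apply]
            split_ifs <;> omega
          rw [e]
          have hq' : q = 2 ∨ q = 5 := by
            interval_cases q <;> first | omega | exact absurd hq (by norm_num)
          rcases hq' with rfl | rfl <;> norm_num at hk ⊢ <;> omega }
  rcases E.main with h | h
  · left; rw [hG]; change m = 10 at h; omega
  · right; rw [hG]; change m = 19 at h; omega

end Setup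

end CfsgLib.DihedralNine
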