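import Cfsg.Agent.SmallSylow.DihedralNine.Setup
import Mathlib.GroupTheory.PGroup

/-!
The local data from the hypotheses.
-/

set_option autoImplicit false
set_option linter.style.haveILetI false
set_option linter.unusedSectionVars false

namespace CfsgLib.DihedralNine

open Subgroup

variable {G : Type*} [Group G] [Finite G]

/-- Relations in the dihedral group of order eight. -/
theorem dihedral_facts :
    (DihedralGroup.sr 0 : DihedralGroup 4) * DihedralGroup.sr 0 = 1 ∧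
    (DihedralGroup.r 1 : DihedralGroup 4) * DihedralGroup.sr 0 *
        (DihedralGroup.r 1 * DihedralGroup.sr 0) = 1 ∧
    (DihedralGroup.sr 0 : DihedralGroup 4) * DihedralGroup.r 2 =
        DihedralGroup.r 2 * DihedralGroup.sr 0 ∧
    (DihedralGroup.r 1 : DihedralGroup 4) * DihedralGroup.sr 0 * DihedralGroup.r 2 =
        DihedralGroup.r 2 * (DihedralGroup.r 1 * DihedralGroup.sr 0) ∧
    (DihedralGroup.r 1 : DihedralGroup 4) * DihedralGroup.r 1 = DihedralGroup.r 2 ∧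
    (DihedralGroup.r 1 : DihedralGroup 4) * DihedralGroup.sr 0 * (DihedralGroup.r 1)⁻¹ =
        DihedralGroup.sr 0 * DihedralGroup.r 2 ∧
    (DihedralGroup.r 1 : DihedralGroup 4) * DihedralGroup.r 2 =
        DihedralGroup.r 2 * DihedralGroup.r 1 ∧
    (DihedralGroup.r 2 : DihedralGroup 4) ≠ 1 ∧ (DihedralGroup.sr 0 : DihedralGroup 4) ≠ 1 ∧
    (DihedralGroup.sr 0 : DihedralGroup 4) * DihedralGroup.r 2 ≠ 1 ∧
    (∀ x : DihedralGroup 4, ∃ i : Fin 4, x = DihedralGroup.r 1 ^ (i : ℕ) ∨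
      x = DihedralGroup.sr 0 * DihedralGroup.r 1 ^ (i : ℕ)) := by
  decide +kernel

theorem cls_flip : ∀ p : P9, cls (p.1, -p.2) = cls p ∧ cls (rot p) = cls p := by decide

/-- The local data exist. -/
theorem exists_setup (M : Sylow 3 G) (hM9 : Nat.card ↥(M : Subgroup G) = 9)
    (hMel : ∀ m ∈ (M : Subgroup G), m ^ 3 = 1)
    (hCM : centralizer ((M : Subgroup G) : Set G) = (M : Subgroup G))
    (hCg : ∀ g ∈ (M : Subgroup G), g ≠ 1 →
      centralizer ({g} : Set G) ≤ normalizer ((M : Subgroup G) : Set G))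
    (hS : ∀ S : Sylow 2 ↥(normalizer ((M : Subgroup G) : Set G)),
      Nonempty (↥(S : Subgroup ↥(normalizer ((M : Subgroup G) : Set G))) ≃* DihedralGroup 4)) :
    ∃ D : Setup G, D.T = (M : Subgroup G) := by
  classical
  obtain ⟨T, hTdef⟩ : ∃ T : Subgroup G, T = (M : Subgroup G) := ⟨_, rfl⟩
  rw [← hTdef] at hM9 hMel hCM hCg hS ⊢
  obtain ⟨N, hN⟩ : ∃ N : Subgroup G, N = normalizer (T : Set G) := ⟨_, rfl⟩
  rw [← hN] at hCg hS
  have hTN : T ≤ N := hN ▸ le_normalizer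
  haveI : Fact (Nat.Prime 2) := ⟨Nat.prime_two⟩
  obtain ⟨S⟩ := (inferInstance : Nonempty (Sylow 2 ↥N))
  obtain ⟨φ⟩ := hS S
  have hcomm : ∀ x ∈ T, ∀ y ∈ T, x * y = y * x := fun x hx y hy => by
    have h := hCM.ge hy
    exact (mem_centralizer_iff.1 h x hx)
  -- the images of the dihedral generators
  let F : DihedralGroup 4 →* G :=
    N.subtype.comp ((S : Subgroup ↥N).subtype.comp φ.symm.toMonoidHom)
  have hFinj : Function.Injective F := fun x y h =>
    φ.symm.injective (Subtype.ext (Subtype.ext h))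
  have hFN : ∀ x, F x ∈ N := fun x => ((S : Subgroup ↥N).subtype (φ.symm x)).2
  have hact : ∀ x, ∀ y ∈ T, F x * y * (F x)⁻¹ ∈ T := fun x y hy => by
    have := hFN x
    rw [hN, mem_normalizer_iff] at this
    exact (this y).1 hy
  have hfree : ∀ x, (∀ y ∈ T, F x * y * (F x)⁻¹ = y) → x = 1 := by
    intro x hx
    have hxT : F x ∈ T := hCM.le (mem_centralizer_iff.2 fun y hy =>
      (mul_inv_eq_iff_eq_mul.1 (hx y hy)).symm)
    have h3 : F x ^ 3 = 1 := hMel _ hxT
    have h8 : F x ^ 8 = 1 := by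
      rw [← map_pow, show x ^ 8 = 1 by
        rw [← pow_card_eq_one' (x := x), DihedralGroup.nat_card], map_one]
    refine hFinj ?_
    rw [map_one]
    calc F x = F x ^ 9 * (F x ^ 8)⁻¹ := by group
      _ = 1 := by rw [show F x ^ 9 = (F x ^ 3) ^ 3 by rw [← pow_mul], h3, h8]; simp
  obtain ⟨d1, d2, d3, d4, d5, d6, d7, d8, d9, d10, d11⟩ := dihedral_facts
  obtain ⟨s, hs⟩ : ∃ s, s = F (DihedralGroup.sr 0) := ⟨_, rfl⟩
  obtain ⟨R, hR⟩ : ∃ R, R = F (DihedralGroup.r 1) := ⟨_, rfl⟩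
  obtain ⟨z, hz⟩ : ∃ z, z = F (DihedralGroup.r 2) := ⟨_, rfl⟩
  have hss : s * s = 1 := by rw [hs, ← map_mul, d1, map_one]
  have hsz : s * z = z * s := by rw [hs, hz, ← map_mul, ← map_mul, d3]
  have hRR : R * R = z := by rw [hR, hz, ← map_mul, d5]
  have hRs : R * s * R⁻¹ = s * z := by rw [hR, hs, hz, ← map_inv, ← map_mul, ← map_mul, ← map_mul, d6]
  have hTs : ∀ y ∈ T, s * y * s⁻¹ ∈ T := fun y hy => hs ▸ hact _ y hy
  have hTz : ∀ y ∈ T, z * y * z⁻¹ ∈ T := fun y hy => hz ▸ hact _ y hy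
  have hTR : ∀ y ∈ T, R * y * R⁻¹ ∈ T := fun y hy => hR ▸ hact _ y hy
  have hsinv : s⁻¹ = s := inv_eq_of_mul_eq_one_right hss
  have hzne : ¬ ∀ y ∈ T, z * y * z⁻¹ = y := fun h => d8 (hfree _ (hz ▸ h))
  have hsne : ¬ ∀ y ∈ T, s * y * s⁻¹ = y := fun h => d9 (hfree _ (hs ▸ h))
  have hszne : ¬ ∀ y ∈ T, s * z * y * (s * z)⁻¹ = y := fun h =>
    d10 (hfree _ (by rw [map_mul, ← hs, ← hz]; exact h))
  -- decomposition under an involution
  have hfourth : ∀ y ∈ T, y ^ 4 = y := fun y hy => by rw [pow_succ, hMel y hy, one_mul]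
  have hs2 : ∀ y : G, s * (s * y * s⁻¹) * s⁻¹ = y := fun y => by
    calc s * (s * y * s⁻¹) * s⁻¹ = s * s * y * (s * s)⁻¹ := by group
      _ = y := by rw [hss]; group
  have hdec : ∀ y ∈ T, ∃ a ∈ T, ∃ b ∈ T, s * a * s⁻¹ = a ∧ s * b * s⁻¹ = b⁻¹ ∧ y = a * b := by
    intro y hy
    have hy' := hTs y hy
    refine ⟨(y * (s * y * s⁻¹)) ^ 2, pow_mem (mul_mem hy hy') 2,
      (y * (s * y * s⁻¹)⁻¹) ^ 2, pow_mem (mul_mem hy (inv_mem hy')) 2, ?_, ?_, ?_⟩
    · rw [← conj_pow, hcomm y hy _ hy']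
      congr 1
      calc s * (s * y * s⁻¹ * y) * s⁻¹ = s * (s * y * s⁻¹) * s⁻¹ * (s * y * s⁻¹) := by group
        _ = _ := by rw [hs2, hcomm y hy _ hy']
    · rw [← conj_pow, ← inv_pow]
      congr 1
      calc s * (y * (s * y * s⁻¹)⁻¹) * s⁻¹
          = s * y * s⁻¹ * (s * (s * y * s⁻¹) * s⁻¹)⁻¹ := by group
        _ = s * y * s⁻¹ * y⁻¹ := by rw [hs2]
        _ = _ := by rw [mul_inv_rev, inv_inv]
    · have c1 : Commute y (s * y * s⁻¹) := hcomm y hy _ hy'
      rw [c1.mul_pow, (c1.inv_right).mul_pow, inv_pow]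
      calc y = y ^ 4 := (hfourth y hy).symm
        _ = y ^ 2 * ((s * y * s⁻¹) ^ 2 * ((s * y * s⁻¹) ^ 2)⁻¹) * y ^ 2 := by group
        _ = _ := by
          rw [hcomm _ (mul_mem (pow_mem hy 2) (mul_mem (pow_mem hy' 2) (inv_mem (pow_mem hy' 2))))
            _ (pow_mem hy 2)]
          have e : y ^ 2 * (y ^ 2 * ((s * y * s⁻¹) ^ 2 * ((s * y * s⁻¹) ^ 2)⁻¹)) =
              y ^ 2 * (y ^ 2 * (s * y * s⁻¹) ^ 2) * ((s * y * s⁻¹) ^ 2)⁻¹ := by group
          rw [e, hcomm _ (pow_mem hy 2) _ (mul_mem (pow_mem hy 2) (pow_mem hy' 2))]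
          group
  have hnotinv : ¬ ∀ y ∈ T, s * y * s⁻¹ = y⁻¹ := by
    intro h
    have h2 : ∀ y ∈ T, s * z * y * (s * z)⁻¹ = y⁻¹ := by
      intro y hy
      rw [← hRs]
      have hy' : R⁻¹ * y * R ∈ T := by
        have := hact (DihedralGroup.r 1)⁻¹ y hy
        rwa [map_inv, ← hR, inv_inv] at this
      calc R * s * R⁻¹ * y * (R * s * R⁻¹)⁻¹ = R * (s * (R⁻¹ * y * R) * s⁻¹) * R⁻¹ := by group
        _ = R * (R⁻¹ * y * R)⁻¹ * R⁻¹ := by rw [h _ hy']
        _ = y⁻¹ := by group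
    refine hzne fun y hy => ?_
    have h3 := h (z * y * z⁻¹) (hTz y hy)
    have h4 := h2 y hy
    rw [show s * z * y * (s * z)⁻¹ = s * (z * y * z⁻¹) * s⁻¹ by group, h3] at h4
    exact inv_injective h4
  obtain ⟨a, haT, ha1, hsa⟩ : ∃ a ∈ T, a ≠ 1 ∧ s * a * s⁻¹ = a := by
    by_contra hno
    push Not at hno
    refine hnotinv fun y hy => ?_
    obtain ⟨a, ha, b, hb, hsa, hsb, rfl⟩ := hdec y hy
    have : a = 1 := by_contra fun h => hno a ha h hsa
    rw [this, one_mul, hsb]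
  obtain ⟨b₀, hb0T, hb01, hsb0⟩ : ∃ b ∈ T, b ≠ 1 ∧ s * b * s⁻¹ = b⁻¹ := by
    by_contra hno
    push Not at hno
    refine hsne fun y hy => ?_
    obtain ⟨a, ha, b, hb, hsa, hsb, rfl⟩ := hdec y hy
    have : b = 1 := by_contra fun h => hno b hb h hsb
    rw [this, mul_one, hsa]
  -- the coordinates with respect to two independent elements
  have coords : ∀ x y : G, x ∈ T → y ∈ T → x ≠ 1 → (∀ i : ℕ, x ^ i ≠ y) →
      Function.Injective (fun p : P9 => x ^ p.1.val * y ^ p.2.val) ∧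
        ∀ t ∈ T, ∃ p : P9, x ^ p.1.val * y ^ p.2.val = t := by
    intro x y hx hy hx1 hxy
    have hinj : Function.Injective (fun p : P9 => x ^ p.1.val * y ^ p.2.val) := by
      intro p q h
      have hox : orderOf x = 3 := orderOf_eq_prime (hMel x hx) hx1
      have cxy : Commute x y := hcomm x hx y hy
      have h2 : p.2 = q.2 := by
        by_contra hne
        -- a nontrivial power of `y` would be a power of `x`
        have e : x ^ p.1.val * y ^ p.2.val * (x ^ (3 - q.1.val) * y ^ (3 - q.2.val)) = 1 := by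
          rw [show x ^ p.1.val * y ^ p.2.val = x ^ q.1.val * y ^ q.2.val from h,
            ((cxy.pow_pow (3 - q.1.val) q.2.val).symm).mul_mul_mul_comm, ← pow_add, ← pow_add,
            Nat.add_sub_cancel' (ZMod.val_lt q.1).le, Nat.add_sub_cancel' (ZMod.val_lt q.2).le,
            hMel x hx, hMel y hy, one_mul]
        rw [((cxy.pow_pow (3 - q.1.val) p.2.val).symm).mul_mul_mul_comm, ← pow_add, ← pow_add] at e
        obtain ⟨k, hk⟩ : ∃ k, p.2.val + (3 - q.2.val) = k := ⟨_, rfl⟩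
        obtain ⟨l, hl⟩ : ∃ l, p.1.val + (3 - q.1.val) = l := ⟨_, rfl⟩
        rw [hk, hl] at e
        have hk3 : k % 3 = 1 ∨ k % 3 = 2 := by
          have := ZMod.val_lt p.2
          have := ZMod.val_lt q.2
          have hv : p.2.val ≠ q.2.val := fun e => hne (ZMod.val_injective _ e)
          omega
        obtain ⟨j, hj⟩ : ∃ j, (k * j) % 3 = 1 := by
          rcases hk3 with h | h
          · exact ⟨1, by omega⟩
          · exact ⟨2, by omega⟩
        have ey : y ^ k = x ^ (2 * l) := by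
          calc y ^ k = (x ^ 3) ^ l * y ^ k := by rw [hMel x hx, one_pow, one_mul]
            _ = x ^ (2 * l) * (x ^ l * y ^ k) := by rw [← mul_assoc, ← pow_add, ← pow_mul]; ring_nf
            _ = _ := by rw [e, mul_one]
        refine hxy (2 * l * j) ?_
        rw [pow_mul, ← ey, ← pow_mul, ← Nat.mod_add_div (k * j) 3, hj, pow_add, pow_mul, hMel y hy,
          one_pow, mul_one, pow_one]
      have h1 : x ^ p.1.val = x ^ q.1.val := by
        simp only [h2] at h
        exact mul_right_cancel h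
      have := pow_injOn_Iio_orderOf (x := x) (by rw [hox]; exact ZMod.val_lt p.1)
        (by rw [hox]; exact ZMod.val_lt q.1) h1
      exact Prod.ext (ZMod.val_injective _ this) h2
    refine ⟨hinj, fun t ht => ?_⟩
    have hb : Function.Bijective (fun p : P9 => (⟨x ^ p.1.val * y ^ p.2.val,
        mul_mem (pow_mem hx _) (pow_mem hy _)⟩ : ↥T)) := by
      refine (Nat.bijective_iff_injective_and_card _).2 ⟨fun p q h => hinj (congrArg Subtype.val h), ?_⟩
      rw [hM9]; simp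
    obtain ⟨p, hp⟩ := hb.2 ⟨t, ht⟩
    exact ⟨p, congrArg Subtype.val hp⟩
  have powfix : ∀ g x : G, g * x * g⁻¹ = x → ∀ i : ℕ, g * x ^ i * g⁻¹ = x ^ i := fun g x h i => by
    rw [← conj_pow, h]
  have two : ∀ x ∈ T, x⁻¹ = x → x = 1 := fun x hx h => by
    have h2 : x * x = 1 := by
      conv_lhs => arg 1; rw [← h]
      exact inv_mul_cancel x
    calc x = x ^ 3 * (x * x)⁻¹ := by group
      _ = 1 := by rw [hMel x hx, h2]; group
  have hab0 : ∀ i : ℕ, a ^ i ≠ b₀ := fun i e => by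
    have h1 := powfix s a hsa i
    rw [e, hsb0] at h1
    exact hb01 (two b₀ hb0T h1)
  obtain ⟨-, hsurj0⟩ := coords a b₀ haT hb0T ha1 hab0
  have fixedA : ∀ y ∈ T, s * y * s⁻¹ = y → ∃ i : ℕ, a ^ i = y := by
    intro y hy hsy
    obtain ⟨p, hp⟩ := hsurj0 y hy
    refine ⟨p.1.val, ?_⟩
    have e : b₀ ^ p.2.val = 1 := by
      refine two _ (pow_mem hb0T _) ?_
      have h1 : s * (a ^ p.1.val * b₀ ^ p.2.val) * s⁻¹ = a ^ p.1.val * b₀ ^ p.2.val := by rw [hp, hsy]
      rw [show s * (a ^ p.1.val * b₀ ^ p.2.val) * s⁻¹ =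
        (s * a ^ p.1.val * s⁻¹) * (s * b₀ ^ p.2.val * s⁻¹) by group, powfix s a hsa,
        ← conj_pow, hsb0, inv_pow] at h1
      exact mul_left_cancel h1
    rw [← hp, e, mul_one]
  have invB : ∀ y ∈ T, s * y * s⁻¹ = y⁻¹ → ∃ i : ℕ, b₀ ^ i = y := by
    intro y hy hsy
    obtain ⟨p, hp⟩ := hsurj0 y hy
    refine ⟨p.2.val, ?_⟩
    have e : a ^ p.1.val = 1 := by
      refine two _ (pow_mem haT _) ?_
      have h1 : s * (a ^ p.1.val * b₀ ^ p.2.val) * s⁻¹ = (a ^ p.1.val * b₀ ^ p.2.val)⁻¹ := by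
        rw [hp, hsy]
      rw [show s * (a ^ p.1.val * b₀ ^ p.2.val) * s⁻¹ =
        (s * a ^ p.1.val * s⁻¹) * (s * b₀ ^ p.2.val * s⁻¹) by group, powfix s a hsa,
        ← conj_pow, hsb0, inv_pow, mul_inv_rev,
        hcomm (b₀ ^ p.2.val)⁻¹ (inv_mem (pow_mem hb0T _)) _ (inv_mem (pow_mem haT _))] at h1
      exact (mul_right_cancel h1).symm
    rw [← hp, e, one_mul]
  have pow3 : ∀ x ∈ T, x ≠ 1 → ∀ y, (∃ i : ℕ, x ^ i = y) → y ≠ 1 → y = x ∨ y = x⁻¹ := by
    rintro x hx - _ ⟨i, rfl⟩ hne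
    have : x ^ i = x ^ (i % 3) := by
      conv_lhs => rw [← Nat.mod_add_div i 3, pow_add, pow_mul, hMel x hx, one_pow, mul_one]
    rw [this] at hne ⊢
    rcases (by omega : i % 3 = 0 ∨ i % 3 = 1 ∨ i % 3 = 2) with h | h | h <;> rw [h] at hne ⊢
    · exact absurd (pow_zero x) hne
    · exact Or.inl (pow_one x)
    · exact Or.inr (eq_inv_of_mul_eq_one_left (by rw [← pow_succ]; exact hMel x hx))
  have hcomz : ∀ y : G, s * (z * y * z⁻¹) * s⁻¹ = z * (s * y * s⁻¹) * z⁻¹ := fun y => by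
    calc s * (z * y * z⁻¹) * s⁻¹ = s * z * y * (s * z)⁻¹ := by group
      _ = z * s * y * (z * s)⁻¹ := by rw [hsz]
      _ = _ := by group
  have hza : z * a * z⁻¹ = a ∨ z * a * z⁻¹ = a⁻¹ :=
    pow3 a haT ha1 _ (fixedA _ (hTz a haT) (by rw [hcomz, hsa]))
      (fun e => ha1 (conj_eq_one_iff.1 e))
  have hzb : z * b₀ * z⁻¹ = b₀ ∨ z * b₀ * z⁻¹ = b₀⁻¹ :=
    pow3 b₀ hb0T hb01 _ (invB _ (hTz _ hb0T) (by rw [hcomz, hsb0, ← conj_inv]))
      (fun e => hb01 (conj_eq_one_iff.1 e))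
  have onT : ∀ g ε : G, ∀ y ∈ T, g * a * g⁻¹ = a → g * b₀ * g⁻¹ = b₀ → g * y * g⁻¹ = y := by
    intro g _ y hy h1 h2
    obtain ⟨p, rfl⟩ := hsurj0 y hy
    rw [show g * (a ^ p.1.val * b₀ ^ p.2.val) * g⁻¹ =
      (g * a ^ p.1.val * g⁻¹) * (g * b₀ ^ p.2.val * g⁻¹) by group, powfix g a h1, powfix g b₀ h2]
  have hzinv : z * a * z⁻¹ = a⁻¹ := by
    refine hza.resolve_left fun h => ?_
    rcases hzb with h' | h'
    · exact hzne fun y hy => onT z 1 y hy h h'
    · refine hszne fun y hy => onT (s * z) 1 y hy ?_ ?_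
      · rw [show s * z * a * (s * z)⁻¹ = s * (z * a * z⁻¹) * s⁻¹ by group, h, hsa]
      · rw [show s * z * b₀ * (s * z)⁻¹ = s * (z * b₀ * z⁻¹) * s⁻¹ by group, h', ← conj_inv, hsb0,
          inv_inv]
  have hzb' : z * b₀ * z⁻¹ = b₀⁻¹ := by
    refine hzb.resolve_left fun h => hnotinv ?_
    -- otherwise `s z` inverts `T`, and so does its conjugate `s`
    intro y hy
    have hsz' : ∀ t ∈ T, s * z * t * (s * z)⁻¹ = t⁻¹ := by
      intro t ht
      obtain ⟨p, rfl⟩ := hsurj0 t ht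
      rw [show s * z * (a ^ p.1.val * b₀ ^ p.2.val) * (s * z)⁻¹ =
        (s * z * a ^ p.1.val * (s * z)⁻¹) * (s * z * b₀ ^ p.2.val * (s * z)⁻¹) by group,
        ← conj_pow, ← conj_pow, show s * z * a * (s * z)⁻¹ = s * (z * a * z⁻¹) * s⁻¹ by group,
        show s * z * b₀ * (s * z)⁻¹ = s * (z * b₀ * z⁻¹) * s⁻¹ by group, hzinv, h, ← conj_inv, hsa,
        hsb0, inv_pow, inv_pow, mul_inv_rev,
        hcomm _ (inv_mem (pow_mem haT _)) _ (inv_mem (pow_mem hb0T _))]
    have := hsz' _ (hTR y hy)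
    rw [← hRs] at this
    refine (MulAut.conj R).injective ?_
    show R * (s * y * s⁻¹) * R⁻¹ = R * y⁻¹ * R⁻¹
    rw [← conj_inv, ← this]
    group
  -- the coordinates
  obtain ⟨b, hb⟩ : ∃ b, b = R * a * R⁻¹ := ⟨_, rfl⟩
  have hbT : b ∈ T := hb ▸ hTR a haT
  have hsb : s * b * s⁻¹ = b⁻¹ := by
    have h1 : s * z * b * (s * z)⁻¹ = b := by
      rw [← hRs, hb]
      calc R * s * R⁻¹ * (R * a * R⁻¹) * (R * s * R⁻¹)⁻¹ = R * (s * a * s⁻¹) * R⁻¹ := by group
        _ = _ := by rw [hsa]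
    have hinv : z * b * z⁻¹ = b⁻¹ := by
      have hzR : z * R = R * z := by rw [← hRR, mul_assoc]
      rw [hb]
      calc z * (R * a * R⁻¹) * z⁻¹ = z * R * a * (z * R)⁻¹ := by group
        _ = R * (z * a * z⁻¹) * R⁻¹ := by rw [hzR]; group
        _ = _ := by rw [hzinv]; group
    rw [show s * z * b * (s * z)⁻¹ = s * (z * b * z⁻¹) * s⁻¹ by group, hinv, ← conj_inv] at h1
    exact inv_eq_iff_eq_inv.1 h1
  have hb1 : b ≠ 1 := fun e => ha1 (conj_eq_one_iff.1 (hb.symm.trans e))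
  have hab : ∀ i : ℕ, a ^ i ≠ b := fun i e => by
    have h1 := powfix s a hsa i
    rw [e, hsb] at h1
    exact hb1 (two b hbT h1)
  obtain ⟨hinj, hsurj⟩ := coords a b haT hbT ha1 hab
  obtain ⟨e, he⟩ : ∃ e : P9 → G, e = fun p => a ^ p.1.val * b ^ p.2.val := ⟨_, rfl⟩
  have e_mem : ∀ p, e p ∈ T := fun p => he ▸ mul_mem (pow_mem haT _) (pow_mem hbT _)
  have e_add : ∀ p q, e (p + q) = e p * e q := by
    intro p q
    have cab : Commute a b := hcomm a haT b hbT
    simp only [he, Prod.fst_add, Prod.snd_add, ZMod.val_add]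
    rw [((cab.pow_pow q.1.val p.2.val).symm).mul_mul_mul_comm, ← pow_add, ← pow_add,
      ← pow_mod_orderOf a (p.1.val + q.1.val), ← pow_mod_orderOf b (p.2.val + q.2.val),
      orderOf_eq_prime (hMel a haT) ha1, orderOf_eq_prime (hMel b hbT) hb1]
  have conj_e : ∀ (g : G) (p : P9), g * e p * g⁻¹ =
      (g * a * g⁻¹) ^ p.1.val * (g * b * g⁻¹) ^ p.2.val := fun g p => by
    rw [conj_pow, conj_pow, he]; group
  have hRb : R * b * R⁻¹ = a⁻¹ := by
    rw [hb, show R * (R * a * R⁻¹) * R⁻¹ = R * R * a * (R * R)⁻¹ by group, hRR, hzinv]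
  have negpow : ∀ x ∈ T, ∀ i : ZMod 3, x⁻¹ ^ i.val = x ^ (-i).val := by
    intro x hx i
    have h2 : x⁻¹ = x ^ 2 := (eq_inv_of_mul_eq_one_left (by rw [← pow_succ]; exact hMel x hx)).symm
    rw [h2, ← pow_mul]
    have key : ∀ j : ZMod 3, (2 * j.val) % 3 = (-j).val := by decide
    conv_lhs => rw [← Nat.mod_add_div (2 * i.val) 3, pow_add, pow_mul, hMel x hx, one_pow, mul_one,
      key]
  have rho_act : ∀ p : P9, R * e p * R⁻¹ = e (rot p) := by
    intro p
    rw [conj_e, hRb, ← hb, negpow a haT, hcomm _ (pow_mem hbT _) _ (pow_mem haT _), he]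
    rfl
  have sigma_act : ∀ p : P9, s * e p * s⁻¹ = e (p.1, -p.2) := by
    intro p
    rw [conj_e, hsa, hsb, negpow b hbT, he]
  have e_zero : e 0 = 1 := by rw [he]; simp
  -- the normaliser is `T` times the dihedral group
  have hNq : (T.subgroupOf N).Normal := ⟨fun x hx g => by
    have h := g.2
    simp only [hN, mem_normalizer_iff] at h
    exact (h (x : G)).1 hx⟩
  have hcardT : Nat.card ↥(T.subgroupOf N) = 9 := by
    rw [Nat.card_congr (subgroupOfEquivOfLe hTN).toEquiv, hM9]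
  have hS8 : Nat.card ↥(S : Subgroup ↥N) = 8 := by
    rw [Nat.card_congr φ.toEquiv, DihedralGroup.nat_card]
  have hcardN : Nat.card ↥N = 72 := by
    obtain ⟨k, hk⟩ : ∃ k, (T.subgroupOf N).index = k := ⟨_, rfl⟩
    have hN9 : Nat.card ↥N = 9 * k := by rw [← card_mul_index (T.subgroupOf N), hcardT, hk]
    have hk0 : k ≠ 0 := fun e => by
      have := Nat.card_pos (α := ↥N)
      rw [hN9, e] at this; omega
    have h3k : ¬ 3 ∣ k := by
      intro h3
      have hd : Nat.card ↥N ∣ Nat.card G := card_subgroup_dvd_card N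
      have h27 : 3 ^ 3 ∣ Nat.card G := by
        refine dvd_trans ?_ hd
        rw [hN9]
        exact Nat.mul_dvd_mul_left 9 h3
      have := M.card_eq_multiplicity
      rw [← hTdef, hM9] at this
      have hle : 3 ≤ (Nat.card G).factorization 3 :=
        (Nat.prime_three.pow_dvd_iff_le_factorization Nat.card_pos.ne').1 h27
      have := Nat.pow_le_pow_right (show 3 > 0 by norm_num) hle
      omega
    have hq : ∀ q : ℕ, q.Prime → q ∣ k → q = 2 := by
      intro q hq hqk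
      by_contra hq2
      haveI := Fact.mk hq
      obtain ⟨x, hx⟩ := exists_prime_orderOf_dvd_card' (G := ↥N) q (hN9 ▸ hqk.mul_left 9)
      have hq3 : q ≠ 3 := fun e => h3k (e ▸ hqk)
      have hxN : ∀ y ∈ T, (x : G) * y * (x : G)⁻¹ ∈ T := fun y hy => by
        have h := x.2
        simp only [hN, mem_normalizer_iff] at h
        exact (h y).1 hy
      have hzp : IsPGroup q ↥(zpowers x) := IsPGroup.of_card (n := 1) (by
        rw [Nat.card_zpowers, hx, pow_one])
      let act : MulAction ↥(zpowers x) ↥T :=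
        { smul := fun g y => ⟨((g : ↥N) : G) * y * ((g : ↥N) : G)⁻¹, by
            have h := (g : ↥N).2
            simp only [hN, mem_normalizer_iff] at h
            exact (h y).1 y.2⟩
          one_smul := fun y => Subtype.ext (show ((1 : ↥N) : G) * y * ((1 : ↥N) : G)⁻¹ = y by simp)
          mul_smul := fun g h y => Subtype.ext (by
            show ((g * h : ↥(zpowers x)) : ↥N) * (y : G) * (((g * h : ↥(zpowers x)) : ↥N) : G)⁻¹ = _
            show _ = ((g : ↥N) : G) * (((h : ↥N) : G) * y * ((h : ↥N) : G)⁻¹) * ((g : ↥N) : G)⁻¹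
            push_cast
            group) }
      have hmod := hzp.card_modEq_card_fixedPoints ↥T
      let Fx : Subgroup ↥T :=
        { carrier := MulAction.fixedPoints ↥(zpowers x) ↥T
          one_mem' := fun g => Subtype.ext (by
            show ((g : ↥N) : G) * (1 : G) * ((g : ↥N) : G)⁻¹ = 1
            simp)
          mul_mem' := fun {y y'} hy hy' g => Subtype.ext (by
            have e1 : ((g : ↥N) : G) * y * ((g : ↥N) : G)⁻¹ = y := congrArg Subtype.val (hy g)
            have e2 : ((g : ↥N) : G) * y' * ((g : ↥N) : G)⁻¹ = y' := congrArg Subtype.val (hy' g)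
            show ((g : ↥N) : G) * ((y : G) * y') * ((g : ↥N) : G)⁻¹ = y * y'
            conv_rhs => rw [← e1, ← e2]
            group)
          inv_mem' := fun {y} hy g => Subtype.ext (by
            have e1 : ((g : ↥N) : G) * y * ((g : ↥N) : G)⁻¹ = y := congrArg Subtype.val (hy g)
            show ((g : ↥N) : G) * (y : G)⁻¹ * ((g : ↥N) : G)⁻¹ = (y : G)⁻¹
            conv_rhs => rw [← e1]
            group) }
      have hd9 : Nat.card ↥Fx ∣ 9 := hM9 ▸ card_subgroup_dvd_card Fx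
      rw [hM9, show Nat.card (MulAction.fixedPoints ↥(zpowers x) ↥T) = Nat.card ↥Fx from rfl] at hmod
      have h9 : Nat.card ↥Fx = 9 := by
        obtain ⟨i, hi, hi'⟩ := (Nat.dvd_prime_pow Nat.prime_three).1 (show _ ∣ 3 ^ 2 from hd9)
        rw [hi'] at hmod ⊢
        interval_cases i
        · have h8 : q ∣ 2 ^ 3 := (Nat.modEq_iff_dvd' (by norm_num)).1 hmod.symm
          exact absurd ((Nat.prime_dvd_prime_iff_eq hq Nat.prime_two).1 (hq.dvd_of_dvd_pow h8)) hq2
        · have h6 : q ∣ 2 * 3 := (Nat.modEq_iff_dvd' (by norm_num)).1 hmod.symm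
          rcases hq.dvd_mul.1 h6 with h | h
          · exact absurd ((Nat.prime_dvd_prime_iff_eq hq Nat.prime_two).1 h) hq2
          · exact absurd ((Nat.prime_dvd_prime_iff_eq hq Nat.prime_three).1 h) hq3
        · norm_num
      have htop : Fx = ⊤ := eq_top_of_card_eq _ (by rw [h9, hM9])
      have hxT : (x : G) ∈ T := hCM.le (mem_centralizer_iff.2 fun y hy => by
        have : (⟨y, hy⟩ : ↥T) ∈ Fx := htop ▸ mem_top _
        exact (mul_inv_eq_iff_eq_mul.1 (congrArg Subtype.val (this ⟨x, mem_zpowers x⟩))).symm)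
      have h3 := hMel _ hxT
      have : orderOf (x : G) ∣ 3 := orderOf_dvd_of_pow_eq_one h3
      rw [Subgroup.orderOf_coe, hx] at this
      exact hq3 ((Nat.prime_dvd_prime_iff_eq hq Nat.prime_three).1 this)
    obtain ⟨j, rfl⟩ : ∃ j, k = 2 ^ j := ⟨_, Nat.eq_prime_pow_of_unique_prime_dvd hk0
      (fun hd hdk => hq _ hd hdk)⟩
    have h2 := S.card_eq_multiplicity
    have hf : (Nat.card ↥N).factorization 2 = j := by
      rw [hN9, Nat.factorization_mul (by norm_num) (by positivity)]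
      simp only [Finsupp.coe_add, Pi.add_apply]
      rw [Nat.Prime.factorization_pow Nat.prime_two, Finsupp.single_eq_same,
        Nat.factorization_eq_zero_of_not_dvd (show ¬ 2 ∣ 9 by norm_num), zero_add]
    rw [hS8, hf] at h2
    rw [hN9, ← h2]
  have hTS : ∀ g ∈ N, ∃ x : DihedralGroup 4, ∃ t ∈ T, g = F x * t := by
    intro g hg
    have hinj' : Function.Injective (fun x : DihedralGroup 4 =>
        QuotientGroup.mk' (T.subgroupOf N) ⟨F x, hFN x⟩) := by
      intro x y h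
      have h' : (F x)⁻¹ * F y ∈ T := by
        have h'' := QuotientGroup.eq.1 h
        simpa [mem_subgroupOf] using h''
      have : x⁻¹ * y = 1 := hfree _ fun t ht => by
        rw [map_mul, map_inv, hcomm _ h' t ht, mul_inv_cancel_right]
      exact inv_mul_eq_one.1 this
    have hcq : Nat.card (↥N ⧸ T.subgroupOf N) = 8 := by
      rw [← index_eq_card]
      have := card_mul_index (T.subgroupOf N)
      rw [hcardT, hcardN] at this
      omega
    obtain ⟨x, hx⟩ := ((Nat.bijective_iff_injective_and_card _).2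
      ⟨hinj', by rw [hcq, DihedralGroup.nat_card]⟩).2 (QuotientGroup.mk' _ ⟨g, hg⟩)
    exact ⟨x, (F x)⁻¹ * g, by simpa [mem_subgroupOf] using QuotientGroup.eq.1 hx, by group⟩
  have clsR : ∀ (i : ℕ) (p : P9), ∃ q, R ^ i * e p * (R ^ i)⁻¹ = e q ∧ cls q = cls p := by
    intro i
    induction i with
    | zero => exact fun p => ⟨p, by simp, rfl⟩
    | succ i ih =>
      intro p
      obtain ⟨q, hq, hq'⟩ := ih p
      refine ⟨rot q, ?_, (cls_flip q).2.trans hq'⟩
      rw [← rho_act, ← hq, pow_succ']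
      group
  have act : ∀ g ∈ N, ∀ p : P9, ∃ q, g * e p * g⁻¹ = e q ∧ cls q = cls p := by
    intro g hg p
    obtain ⟨x, t, ht, rfl⟩ := hTS g hg
    have htp : t * e p * t⁻¹ = e p := by rw [hcomm t ht _ (e_mem p), mul_inv_cancel_right]
    rw [show F x * t * e p * (F x * t)⁻¹ = F x * (t * e p * t⁻¹) * (F x)⁻¹ by group, htp]
    obtain ⟨i, rfl | rfl⟩ := d11 x
    · rw [map_pow, ← hR]
      exact clsR i p
    · obtain ⟨q, hq, hq'⟩ := clsR i p
      refine ⟨(q.1, -q.2), ?_, (cls_flip q).1.trans hq'⟩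
      rw [map_mul, map_pow, ← hs, ← hR, ← sigma_act, ← hq]
      group
  exact ⟨{
    T := T
    sylow := ⟨M, hTdef.symm⟩
    e := e
    e_zero := e_zero
    e_add := e_add
    e_inj := he ▸ hinj
    e_mem := e_mem
    e_surj := fun t ht => he ▸ hsurj t ht
    cent := hCM
    loc := fun x hx h1 => hN ▸ hCg x hx h1
    rho := R
    sigma := s
    rho_act := rho_act
    sigma_act := sigma_act
    sigma_sq := hss
    rs_sq := by rw [hR, hs, ← map_mul, ← map_mul, d2, map_one]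
    sigma_z := by rw [hRR]; exact hsz
    rs_z := by
      rw [hRR]
      show R * s * z = z * (R * s)
      rw [hR, hs, hz, ← map_mul, ← map_mul, ← map_mul, d4]
    act := hN ▸ act
    card_N := hN ▸ hcardN }, rfl⟩

end CfsgLib.DihedralNine
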