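import Cfsg.Agent.SmallSylow.DihedralNine.Search
import Mathlib.Algebra.BigOperators.Ring.Finset
import Mathlib.Algebra.Order.BigOperators.Group.Finset

/-!
The degree equations of a group with a self-centralizing Sylow `3`-subgroup of order nine and
dihedral automizer of order eight: only two orders survive.
-/

set_option autoImplicit false
set_option linter.unusedSectionVars false
set_option maxHeartbeats 2000000

namespace CfsgLib.DihedralNine

open Finset

/-- The numerical data: values at the two classes of elements of order three (`a`, `c`), at the two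
classes of elements of order six (`w`, `v`), and the degrees. -/
structure Data (ι : Type*) where
  s : Finset ι
  o : ι
  a : ι → ℤ
  c : ι → ℤ
  w : ι → ℤ
  v : ι → ℤ
  d : ι → ℕ
  m : ℕ
  o_mem : o ∈ s
  o_val : a o = 1 ∧ c o = 1 ∧ w o = 1 ∧ v o = 1 ∧ d o = 1
  aa : ∑ x ∈ s, a x * a x = 18
  cc : ∑ x ∈ s, c x * c x = 18
  ac : ∑ x ∈ s, a x * c x = 0
  ww : ∑ x ∈ s, w x * w x = 6
  vv : ∑ x ∈ s, v x * v x = 6
  aw : ∑ x ∈ s, a x * w x = 0
  cw : ∑ x ∈ s, c x * w x = 0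
  av : ∑ x ∈ s, a x * v x = 0
  cv : ∑ x ∈ s, c x * v x = 0
  wv : ∑ x ∈ s, w x * v x = 0
  da : ∑ x ∈ s, (d x : ℤ) * a x = 0
  dc : ∑ x ∈ s, (d x : ℤ) * c x = 0
  dw : ∑ x ∈ s, (d x : ℤ) * w x = 0
  dv : ∑ x ∈ s, (d x : ℤ) * v x = 0
  congr3 : ∀ x ∈ s, (3 : ℤ) ∣ a x - c x
  wpar : ∀ x ∈ s, (2 : ℤ) ∣ w x - a x
  vpar : ∀ x ∈ s, (2 : ℤ) ∣ v x - c x
  nine : ∀ x ∈ s, (9 : ℤ) ∣ d x + 4 * a x + 4 * c x
  dpos : ∀ x ∈ s, 0 < d x
  proper : ∀ x ∈ s, x ≠ o → a x ≠ d x ∧ c x ≠ d x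
  taac : (72 * m : ℚ) * ∑ x ∈ s, (a x : ℚ) * a x * c x / d x = 648
  tacc : (72 * m : ℚ) * ∑ x ∈ s, (a x : ℚ) * c x * c x / d x = 648
  m_mod : m % 9 = 1
  one_lt : 1 < m
  ddvd : ∀ x ∈ s, d x ∣ 72 * m
  small : ∀ x ∈ s, x ≠ o → (a x ≠ 0 ∨ c x ≠ 0) →
    (∀ y ∈ s, d y = d x → a y = a x → c y = c x → w y = w x → v y = v x → y = x) →
    (d x ≤ 8 → m ∣ 2 ^ 12 * 175) ∧ (d x ≤ 5 → m ∣ 160)

/-- The possible numbers of rows of each kind. -/
theorem count_cases {A B C E H I J K : ℕ} (h4 : (A : ℤ) + B + C + E + H + I = 4)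
    (h6 : -(A : ℤ) + C + 2 * E + 3 * H + 4 * I = 6)
    (h0 : 4 * (A : ℤ) + 0 * B - 2 * C - 2 * E + 0 * H + 4 * I + J + 4 * K = 0)
    (hA : (A : ℤ) + C + H + J ≤ 6) (hC : (B : ℤ) + E + I + J ≤ 6) (hJ : 1 ≤ J) :
    (A = 0 ∧ I = 0) ∧
      ((B = 1 ∧ C = 1 ∧ E = 1 ∧ H = 1 ∧ J = 4 ∧ K = 0) ∨
        (B = 0 ∧ C = 3 ∧ E = 0 ∧ H = 1 ∧ J = 2 ∧ K = 1) ∨
        (B = 1 ∧ C = 0 ∧ E = 3 ∧ H = 0 ∧ J = 2 ∧ K = 1) ∨
        (B = 0 ∧ C = 2 ∧ E = 2 ∧ H = 0 ∧ J = 4 ∧ K = 1)) := by
  obtain ⟨rfl, rfl⟩ : A = 0 ∧ I = 0 := by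
    rcases (by omega : I = 0 ∨ I = 1 ∨ 2 ≤ I) with h | h | h <;>
      rcases (by omega : H = 0 ∨ H = 1 ∨ 2 ≤ H) with h' | h' | h' <;> omega
  refine ⟨⟨rfl, rfl⟩, ?_⟩
  rcases (by omega : H = 0 ∨ H = 1 ∨ H = 2 ∨ 3 ≤ H) with h | h | h | h <;>
    rcases (by omega : C = 0 ∨ C = 1 ∨ C = 2 ∨ C = 3 ∨ C = 4) with h' | h' | h' | h' | h' <;> omega

namespace Data

variable {ι : Type*} (D : Data ι)

/-- Exchange the two classes. -/
def swap : Data ι where
  s := D.s
  o := D.o
  a := D.c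
  c := D.a
  w := D.v
  v := D.w
  d := D.d
  m := D.m
  o_mem := D.o_mem
  o_val := ⟨D.o_val.2.1, D.o_val.1, D.o_val.2.2.2.1, D.o_val.2.2.1, D.o_val.2.2.2.2⟩
  aa := D.cc
  cc := D.aa
  ac := by simpa only [mul_comm] using D.ac
  ww := D.vv
  vv := D.ww
  aw := D.cv
  cw := D.av
  av := D.cw
  cv := D.aw
  wv := by simpa only [mul_comm] using D.wv
  da := D.dc
  dc := D.da
  dw := D.dv
  dv := D.dw
  congr3 x hx := by simpa using (D.congr3 x hx).neg_right
  wpar := D.vpar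
  vpar := D.wpar
  nine x hx := by simpa only [add_right_comm] using D.nine x hx
  dpos := D.dpos
  proper x hx h := (D.proper x hx h).symm
  taac := by
    rw [← D.tacc]
    exact congrArg _ (Finset.sum_congr rfl fun x _ => by ring)
  tacc := by
    rw [← D.taac]
    exact congrArg _ (Finset.sum_congr rfl fun x _ => by ring)
  m_mod := D.m_mod
  one_lt := D.one_lt
  ddvd := D.ddvd
  small x hx ho h0 h := D.small x hx ho h0.symm fun y hy h1 h2 h3 h4 h5 => h y hy h1 h3 h2 h5 h4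

/-- A third of `a - c`. -/
def n (x : ι) : ℤ := (D.a x - D.c x) / 3

theorem n_spec {x : ι} (hx : x ∈ D.s) : D.a x - D.c x = 3 * D.n x :=
  (Int.mul_ediv_cancel' (D.congr3 x hx)).symm

theorem sum_nn : ∑ x ∈ D.s, D.n x * D.n x = 4 := by
  have h : ∑ x ∈ D.s, (9 * (D.n x * D.n x) - (D.a x * D.a x - 2 * (D.a x * D.c x) + D.c x * D.c x))
      = 0 := Finset.sum_eq_zero fun x hx => by
    linear_combination (-(D.a x - D.c x + 3 * D.n x)) * D.n_spec hx
  simp only [Finset.sum_sub_distrib, Finset.sum_add_distrib, ← Finset.mul_sum, D.aa, D.ac, D.cc] at h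
  linarith

theorem sum_na : ∑ x ∈ D.s, D.n x * D.a x = 6 := by
  have h : ∑ x ∈ D.s, (3 * (D.n x * D.a x) - (D.a x * D.a x - D.a x * D.c x)) = 0 :=
    Finset.sum_eq_zero fun x hx => by linear_combination (-D.a x) * D.n_spec hx
  simp only [Finset.sum_sub_distrib, ← Finset.mul_sum, D.aa, D.ac] at h
  linarith

theorem sum_dn : ∑ x ∈ D.s, (D.d x : ℤ) * D.n x = 0 := by
  have h : ∑ x ∈ D.s, (3 * ((D.d x : ℤ) * D.n x) - ((D.d x : ℤ) * D.a x - (D.d x : ℤ) * D.c x)) = 0 :=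
    Finset.sum_eq_zero fun x hx => by linear_combination (-(D.d x : ℤ)) * D.n_spec hx
  simp only [Finset.sum_sub_distrib, ← Finset.mul_sum, D.da, D.dc] at h
  linarith

theorem sum_acn : ∑ x ∈ D.s, ((D.a x * D.c x * D.n x : ℤ) : ℚ) / D.d x = 0 := by
  have hm : (72 * D.m : ℚ) ≠ 0 := by
    have := D.one_lt
    positivity
  apply mul_left_cancel₀ hm
  rw [mul_zero]
  have h := (sub_eq_zero.2 (D.taac.trans D.tacc.symm))
  rw [← mul_sub, ← Finset.sum_sub_distrib] at h
  have e : ∑ x ∈ D.s, ((D.a x : ℚ) * D.a x * D.c x / D.d x - (D.a x : ℚ) * D.c x * D.c x / D.d x)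
      = 3 * ∑ x ∈ D.s, ((D.a x * D.c x * D.n x : ℤ) : ℚ) / D.d x := by
    rw [Finset.mul_sum]
    refine Finset.sum_congr rfl fun x hx => ?_
    have h1 : (D.a x : ℚ) - D.c x = 3 * D.n x := by exact_mod_cast D.n_spec hx
    rw [← sub_div, mul_div_assoc']
    congr 1
    push_cast
    linear_combination (D.a x : ℚ) * D.c x * h1
  rw [e] at h
  linarith

/-- There is no single row carrying the whole difference. -/
theorem n_abs_le {x : ι} (hx : x ∈ D.s) : D.n x * D.n x ≤ 1 := by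
  by_contra hlt
  have h4 : D.n x * D.n x ≤ 4 :=
    D.sum_nn ▸ Finset.single_le_sum (f := fun y => D.n y * D.n y) (fun y _ => mul_self_nonneg _) hx
  have hb : -2 ≤ D.n x ∧ D.n x ≤ 2 := ⟨by nlinarith, by nlinarith⟩
  have h2 : D.n x = 2 ∨ D.n x = -2 := by
    obtain ⟨h1, h2⟩ := hb
    interval_cases h : D.n x <;> omega
  have hother : ∀ y ∈ D.s, y ≠ x → D.n y = 0 := by
    intro y hy hne
    classical
    have hp := Finset.sum_le_sum_of_subset_of_nonneg (s := {x, y}) (t := D.s)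
      (f := fun z => D.n z * D.n z) (by simp [Finset.insert_subset_iff, hx, hy])
      (fun z _ _ => mul_self_nonneg _)
    rw [Finset.sum_pair hne.symm, D.sum_nn] at hp
    have : D.n x * D.n x = 4 := by rcases h2 with h | h <;> rw [h] <;> norm_num
    exact mul_self_eq_zero.1 (le_antisymm (by linarith) (mul_self_nonneg _))
  have hna := D.sum_na
  rw [Finset.sum_eq_single x (fun y hy hne => by rw [hother y hy hne, zero_mul])
    (fun h => absurd hx h)] at hna
  have hacn := D.sum_acn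
  rw [Finset.sum_eq_single x (fun y hy hne => by rw [hother y hy hne]; simp)
    (fun h => absurd hx h), div_eq_zero_iff] at hacn
  have hd : (D.d x : ℚ) ≠ 0 := by exact_mod_cast (D.dpos x hx).ne'
  have h0 : D.a x * D.c x * D.n x = 0 := by exact_mod_cast hacn.resolve_right hd
  have h3 := D.n_spec hx
  rcases h2 with h | h <;> rw [h] at hna h3 <;>
    simp only [mul_eq_zero] at h0 <;> omega

theorem n_cases {x : ι} (hx : x ∈ D.s) : D.n x = 0 ∨ D.n x = 1 ∨ D.n x = -1 := by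
  have h := D.n_abs_le hx
  have : -1 ≤ D.n x ∧ D.n x ≤ 1 := ⟨by nlinarith, by nlinarith⟩
  omega

/-- The rows with `n ≠ 0`, by the value `n a`. -/
def N (k : ℤ) : Finset ι := D.s.filter fun x => D.n x ≠ 0 ∧ D.n x * D.a x = k

/-- The rows with `n = 0`, by the parity of `a`. -/
def Rodd : Finset ι := D.s.filter fun x => D.n x = 0 ∧ D.a x % 2 = 1

/-- The rows with `n = 0` and even nonzero value. -/
def Reven : Finset ι := D.s.filter fun x => D.n x = 0 ∧ D.a x % 2 = 0 ∧ D.a x ≠ 0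

theorem mem_N {k : ℤ} {x : ι} (h : x ∈ D.N k) :
    x ∈ D.s ∧ (D.n x = 1 ∨ D.n x = -1) ∧ D.a x = k * D.n x ∧ D.c x = (k - 3) * D.n x := by
  rw [N, Finset.mem_filter] at h
  obtain ⟨hx, h0, hk⟩ := h
  have h3 := D.n_spec hx
  refine ⟨hx, (D.n_cases hx).resolve_left h0, ?_⟩
  rcases (D.n_cases hx).resolve_left h0 with h | h <;> rw [h] at hk h3 ⊢ <;> omega

theorem o_mem_Rodd : D.o ∈ D.Rodd := by
  have h := D.n_spec D.o_mem
  rw [D.o_val.1, D.o_val.2.1] at h
  exact Finset.mem_filter.2 ⟨D.o_mem, by omega, by rw [D.o_val.1]; norm_num⟩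

/-- A value `n a` is between `-1` and `4`. -/
theorem alpha_bound {x : ι} (hx : x ∈ D.s) (h : D.n x ≠ 0) :
    -1 ≤ D.n x * D.a x ∧ D.n x * D.a x ≤ 4 := by
  classical
  -- `a c` summed over all rows vanishes and the trivial row contributes one
  have hge : ∀ y ∈ D.s, (if D.n y = 0 then 0 else -2 : ℤ) ≤ D.a y * D.c y := by
    intro y hy
    have h3 := D.n_spec hy
    rcases D.n_cases hy with e | e | e <;> rw [e] at h3 ⊢
    · rw [if_pos rfl, show D.c y = D.a y by omega]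
      exact mul_self_nonneg _
    · rw [if_neg (by norm_num), show D.c y = D.a y - 3 by omega]
      rcases (by omega : D.a y ≤ 1 ∨ 2 ≤ D.a y) with h' | h' <;> nlinarith
    · rw [if_neg (by norm_num), show D.c y = D.a y + 3 by omega]
      rcases (by omega : D.a y ≤ -2 ∨ -1 ≤ D.a y) with h' | h' <;> nlinarith
  obtain ⟨g, hg⟩ : ∃ g : ι → ℤ, g = fun y => D.a y * D.c y - (if D.n y = 0 then 0 else -2) :=
    ⟨_, rfl⟩
  have hsum : ∑ y ∈ D.s, g y = 8 := by
    have hcount : ∑ y ∈ D.s, (if D.n y = 0 then 0 else -2 : ℤ) = -2 * ∑ y ∈ D.s, D.n y * D.n y := by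
      rw [Finset.mul_sum]
      refine Finset.sum_congr rfl fun y hy => ?_
      rcases D.n_cases hy with e | e | e <;> simp [e]
    rw [hg, Finset.sum_sub_distrib, D.ac, hcount, D.sum_nn]
    norm_num
  have ho : D.o ≠ x := by
    rintro rfl
    exact h (Finset.mem_filter.1 D.o_mem_Rodd).2.1
  have hp := Finset.sum_le_sum_of_subset_of_nonneg (s := {D.o, x}) (t := D.s) (f := g)
    (by simp [Finset.insert_subset_iff, hx, D.o_mem])
    (fun y hy _ => by rw [hg]; linarith [hge y hy])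
  rw [Finset.sum_pair ho, hsum, hg] at hp
  simp only [D.o_val.1, D.o_val.2.1, (Finset.mem_filter.1 D.o_mem_Rodd).2.1, if_true, if_neg h] at hp
  have h3 := D.n_spec hx
  rcases (D.n_cases hx).resolve_left h with e | e <;> rw [e] at h3 ⊢
  · rw [show D.c x = D.a x - 3 by omega] at hp
    constructor <;> nlinarith
  · rw [show D.c x = D.a x + 3 by omega] at hp
    constructor <;> nlinarith

/-- Splitting a sum over the classes of rows. -/
theorem split {M : Type*} [AddCommMonoid M] (f : ι → M)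
    (hf : ∀ x ∈ D.s, D.n x = 0 → D.a x = 0 → f x = 0) :
    ∑ x ∈ D.s, f x = (∑ x ∈ D.N (-1), f x) + (∑ x ∈ D.N 0, f x) + (∑ x ∈ D.N 1, f x) +
      (∑ x ∈ D.N 2, f x) + (∑ x ∈ D.N 3, f x) + (∑ x ∈ D.N 4, f x) +
      (∑ x ∈ D.Rodd, f x) + (∑ x ∈ D.Reven, f x) := by
  simp only [N, Rodd, Reven, Finset.sum_filter, ← Finset.sum_add_distrib]
  refine Finset.sum_congr rfl fun x hx => ?_
  by_cases h : D.n x = 0
  · rcases Int.emod_two_eq_zero_or_one (D.a x) with h2 | h2
    · by_cases h3 : D.a x = 0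
      · simp [h, h3, hf x hx h h3]
      · simp [h, h2, h3]
    · simp [h, h2]
  · obtain ⟨h1, h2⟩ := D.alpha_bound hx h
    obtain ⟨k, hk⟩ : ∃ k, D.n x * D.a x = k := ⟨_, rfl⟩
    rw [hk] at h1 h2
    interval_cases k <;> simp [h, hk]

/-- The case distinction. -/
theorem profile :
    ((D.N (-1)).card = 0 ∧ (D.N 4).card = 0) ∧
    (((D.N 0).card = 1 ∧ (D.N 1).card = 1 ∧ (D.N 2).card = 1 ∧ (D.N 3).card = 1 ∧
        D.Rodd.card = 4 ∧ D.Reven.card = 0) ∨
      ((D.N 0).card = 0 ∧ (D.N 1).card = 3 ∧ (D.N 2).card = 0 ∧ (D.N 3).card = 1 ∧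
        D.Rodd.card = 2 ∧ D.Reven.card = 1) ∨
      ((D.N 0).card = 1 ∧ (D.N 1).card = 0 ∧ (D.N 2).card = 3 ∧ (D.N 3).card = 0 ∧
        D.Rodd.card = 2 ∧ D.Reven.card = 1) ∨
      ((D.N 0).card = 0 ∧ (D.N 1).card = 2 ∧ (D.N 2).card = 2 ∧ (D.N 3).card = 0 ∧
        D.Rodd.card = 4 ∧ D.Reven.card = 1)) ∧
    (∀ x ∈ D.Rodd, D.a x = 1 ∨ D.a x = -1) ∧ (∀ x ∈ D.Reven, D.a x = 2 ∨ D.a x = -2) := by
  -- the small values of the rows with `n = 0`
  have hsmall : ∀ x ∈ D.s, D.n x = 0 → D.a x * D.c x ≤ 8 := by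
    classical
    intro x hx h
    have hz : D.a x = D.c x := by have := D.n_spec hx; rw [h] at this; omega
    have hac := D.ac
    rw [← Finset.add_sum_erase _ _ hx] at hac
    have hge : -8 ≤ ∑ y ∈ D.s.erase x, D.a y * D.c y := by
      calc (-8 : ℤ) = -2 * 4 := by norm_num
        _ ≤ -2 * ∑ y ∈ D.s.erase x, D.n y * D.n y := by
          have := Finset.sum_le_sum_of_subset_of_nonneg (f := fun y => D.n y * D.n y)
            (Finset.erase_subset x D.s) (fun y _ _ => mul_self_nonneg _)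
          rw [D.sum_nn] at this
          linarith
        _ = ∑ y ∈ D.s.erase x, -2 * (D.n y * D.n y) := Finset.mul_sum _ _ _
        _ ≤ _ := Finset.sum_le_sum fun y hy => by
          have h3 := D.n_spec (Finset.mem_of_mem_erase hy)
          rcases D.n_cases (Finset.mem_of_mem_erase hy) with e | e | e <;> rw [e] at h3 ⊢
          · rw [show D.c y = D.a y by omega]
            simpa using mul_self_nonneg (D.a y)
          · rw [show D.c y = D.a y - 3 by omega]
            rcases (by omega : D.a y ≤ 1 ∨ 2 ≤ D.a y) with h' | h' <;> nlinarith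
          · rw [show D.c y = D.a y + 3 by omega]
            rcases (by omega : D.a y ≤ -2 ∨ -1 ≤ D.a y) with h' | h' <;> nlinarith
    linarith
  have hRo : ∀ x ∈ D.Rodd, D.a x = 1 ∨ D.a x = -1 := by
    intro x hx
    obtain ⟨hxs, h0, h1⟩ := Finset.mem_filter.1 hx
    have h := hsmall x hxs h0
    have hz : D.a x = D.c x := by have := D.n_spec hxs; rw [h0] at this; omega
    rw [← hz] at h
    have : -2 ≤ D.a x ∧ D.a x ≤ 2 := ⟨by nlinarith, by nlinarith⟩
    omega
  have hRe : ∀ x ∈ D.Reven, D.a x = 2 ∨ D.a x = -2 := by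
    intro x hx
    obtain ⟨hxs, h0, h1, h2⟩ := Finset.mem_filter.1 hx
    have h := hsmall x hxs h0
    have hz : D.a x = D.c x := by have := D.n_spec hxs; rw [h0] at this; omega
    rw [← hz] at h
    have : -2 ≤ D.a x ∧ D.a x ≤ 2 := ⟨by nlinarith, by nlinarith⟩
    omega
  -- sums over one class
  have cN : ∀ (k : ℤ) (f : ι → ℤ) (z : ℤ), (∀ x ∈ D.N k, f x = z) →
      ∑ x ∈ D.N k, f x = (D.N k).card * z := fun k f z h => by
    rw [Finset.sum_congr rfl h, Finset.sum_const, nsmul_eq_mul]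
  have cR : ∀ (f : ι → ℤ) (z z' : ℤ), (∀ x ∈ D.Rodd, f x = z) → (∀ x ∈ D.Reven, f x = z') →
      ∑ x ∈ D.Rodd, f x = D.Rodd.card * z ∧ ∑ x ∈ D.Reven, f x = D.Reven.card * z' := fun f z z' h h' => by
    rw [Finset.sum_congr rfl h, Finset.sum_congr rfl h']
    simp
  have eN : ∀ k, ∀ x ∈ D.N k, D.n x * D.n x = 1 ∧ D.n x * D.a x = k ∧
      D.a x * D.c x = k * (k - 3) := by
    intro k x hx
    obtain ⟨-, h, ha, hc⟩ := D.mem_N hx
    rw [ha, hc]
    rcases h with h | h <;> rw [h] <;> refine ⟨by ring, by ring, by ring⟩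
  have eR : ∀ x ∈ D.Rodd, D.n x = 0 ∧ D.c x = D.a x := fun x hx => by
    obtain ⟨hxs, h0, -⟩ := Finset.mem_filter.1 hx
    have := D.n_spec hxs
    rw [h0] at this
    exact ⟨h0, by omega⟩
  have eE : ∀ x ∈ D.Reven, D.n x = 0 ∧ D.c x = D.a x := fun x hx => by
    obtain ⟨hxs, h0, -⟩ := Finset.mem_filter.1 hx
    have := D.n_spec hxs
    rw [h0] at this
    exact ⟨h0, by omega⟩
  have h4 := D.sum_nn
  rw [D.split _ fun x _ h _ => by rw [h, zero_mul]] at h4
  simp only [fun k => cN k _ 1 fun x hx => (eN k x hx).1] at h4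
  obtain ⟨r1, r2⟩ := cR (fun x => D.n x * D.n x) 0 0 (fun x hx => by simp [(eR x hx).1])
    (fun x hx => by simp [(eE x hx).1])
  rw [r1, r2] at h4
  have h6 := D.sum_na
  rw [D.split _ fun x _ h _ => by rw [h, zero_mul]] at h6
  simp only [fun k => cN k _ k fun x hx => (eN k x hx).2.1] at h6
  obtain ⟨r1, r2⟩ := cR (fun x => D.n x * D.a x) 0 0 (fun x hx => by simp [(eR x hx).1])
    (fun x hx => by simp [(eE x hx).1])
  rw [r1, r2] at h6
  have h0 := D.ac
  rw [D.split _ fun x _ _ h => by rw [h, zero_mul]] at h0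
  simp only [fun k => cN k _ (k * (k - 3)) fun x hx => (eN k x hx).2.2] at h0
  obtain ⟨r1, r2⟩ := cR (fun x => D.a x * D.c x) 1 4
    (fun x hx => by rw [(eR x hx).2]; rcases hRo x hx with e | e <;> rw [e] <;> norm_num)
    (fun x hx => by rw [(eE x hx).2]; rcases hRe x hx with e | e <;> rw [e] <;> norm_num)
  rw [r1, r2] at h0
  -- odd values force nonzero values at the elements of order six
  have hoddA : ((D.N (-1)).card : ℤ) + (D.N 1).card + (D.N 3).card + D.Rodd.card ≤ 6 := by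
    classical
    calc _ = ∑ x ∈ D.s, (if D.a x % 2 = 0 then 0 else 1 : ℤ) := by
          rw [D.split _ fun x _ _ h => by simp [h]]
          have key : ∀ (k : ℤ) (z : ℤ), (k % 2 = 0 ∧ z = 0 ∨ k % 2 = 1 ∧ z = 1) → ∀ x ∈ D.N k,
              (if D.a x % 2 = 0 then 0 else 1 : ℤ) = z := by
            intro k z hz x hx
            obtain ⟨-, h, ha, -⟩ := D.mem_N hx
            rcases h with h | h <;> rw [h] at ha <;> split_ifs <;> omega
          rw [cN _ _ _ (key (-1) 1 (by norm_num)), cN _ _ _ (key 0 0 (by norm_num)),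
            cN _ _ _ (key 1 1 (by norm_num)), cN _ _ _ (key 2 0 (by norm_num)),
            cN _ _ _ (key 3 1 (by norm_num)), cN _ _ _ (key 4 0 (by norm_num))]
          obtain ⟨r1, r2⟩ := cR (fun x => (if D.a x % 2 = 0 then 0 else 1 : ℤ)) 1 0
            (fun x hx => by simp [(Finset.mem_filter.1 hx).2.2])
            (fun x hx => by simp [(Finset.mem_filter.1 hx).2.2.1])
          rw [r1, r2]
          ring
      _ ≤ 6 := D.ww ▸ Finset.sum_le_sum fun x hx => by
          split_ifs with h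
          · exact mul_self_nonneg _
          · have := D.wpar x hx
            rcases (by omega : D.w x ≤ -1 ∨ 1 ≤ D.w x) with h' | h' <;> nlinarith
  have hoddC : ((D.N 0).card : ℤ) + (D.N 2).card + (D.N 4).card + D.Rodd.card ≤ 6 := by
    classical
    calc _ = ∑ x ∈ D.s, (if D.c x % 2 = 0 then 0 else 1 : ℤ) := by
          rw [D.split _ fun x hx h0 h => by
            have := D.n_spec hx
            rw [h0, h] at this
            simp [show D.c x = 0 by omega]]
          have key : ∀ (k : ℤ) (z : ℤ), (k % 2 = 1 ∧ z = 0 ∨ k % 2 = 0 ∧ z = 1) → ∀ x ∈ D.N k,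
              (if D.c x % 2 = 0 then 0 else 1 : ℤ) = z := by
            intro k z hz x hx
            obtain ⟨-, h, -, hc⟩ := D.mem_N hx
            rcases h with h | h <;> rw [h] at hc <;> split_ifs <;> omega
          rw [cN _ _ _ (key (-1) 0 (by norm_num)), cN _ _ _ (key 0 1 (by norm_num)),
            cN _ _ _ (key 1 0 (by norm_num)), cN _ _ _ (key 2 1 (by norm_num)),
            cN _ _ _ (key 3 0 (by norm_num)), cN _ _ _ (key 4 1 (by norm_num))]
          obtain ⟨r1, r2⟩ := cR (fun x => (if D.c x % 2 = 0 then 0 else 1 : ℤ)) 1 0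
            (fun x hx => by simp [(eR x hx).2, (Finset.mem_filter.1 hx).2.2])
            (fun x hx => by simp [(eE x hx).2, (Finset.mem_filter.1 hx).2.2.1])
          rw [r1, r2]
          ring
      _ ≤ 6 := D.vv ▸ Finset.sum_le_sum fun x hx => by
          split_ifs with h
          · exact mul_self_nonneg _
          · have := D.vpar x hx
            rcases (by omega : D.v x ≤ -1 ∨ 1 ≤ D.v x) with h' | h' <;> nlinarith
  have hr : 1 ≤ D.Rodd.card := Finset.card_pos.2 ⟨D.o, D.o_mem_Rodd⟩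
  exact ⟨(count_cases (A := (D.N (-1)).card) (B := (D.N 0).card) (C := (D.N 1).card)
    (E := (D.N 2).card) (H := (D.N 3).card) (I := (D.N 4).card) (J := D.Rodd.card)
    (K := D.Reven.card) (by linarith) (by linarith) (by linarith) (by linarith) (by linarith) hr).1,
    (count_cases (A := (D.N (-1)).card) (B := (D.N 0).card) (C := (D.N 1).card)
    (E := (D.N 2).card) (H := (D.N 3).card) (I := (D.N 4).card) (J := D.Rodd.card)
    (K := D.Reven.card) (by linarith) (by linarith) (by linarith) (by linarith) (by linarith) hr).2,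
    hRo, hRe⟩

end Data

end CfsgLib.DihedralNine
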