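import Mathlib.Data.Nat.Factors
import Mathlib.Data.Rat.Defs
import Mathlib.Algebra.Order.Field.Rat
import Mathlib.RingTheory.Int.Basic
import Mathlib.Tactic

/-!
The finite search behind the degree equations for a self-centralizing Sylow `3`-subgroup of order
nine with dihedral automizer of order eight.
-/

set_option autoImplicit false

namespace CfsgLib.DihedralNine

/-- The signed divisors in a given residue class modulo nine. -/
def cand (ds : List ℕ) (k : ℤ) : List ℤ :=
  (List.map Int.ofNat ds ++ List.map (fun d : ℕ => -Int.ofNat d) ds).filter fun x => x % 9 == k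

/-- The product of the unknowns. -/
def den (P Pl F r t : ℤ) : ℤ := P * Pl * F * r * t

/-- The numerator of the weighted sum. -/
def num (P Pl F r t : ℤ) : ℤ :=
  den P Pl F r t + 2 * Pl * F * r * t + P * F * r * t + 16 * P * Pl * r * t - 2 * P * Pl * F * (r + t)

/-- The test for a single tuple; `M` is a multiple of `8 m`. -/
def test (M : ℕ) (P Pl r t : ℤ) : Bool :=
  let F := -(1 + 2 * P + Pl + r + t)
  if F % 18 != 4 || F == 4 then true else
  let N := num P Pl F r t
  let D := 9 * den P Pl F r t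
  if D % N != 0 then true else
  let m := D / N
  if m ≤ 1 || m % 9 != 1 || (M : ℤ) % (8 * m) != 0 then true else
  m == 10 || ((r == 5 || t == 5) && (160 : ℤ) % m != 0)

/-- The whole search over the divisors `ds` of `M`. -/
def search (M : ℕ) (ds : List ℕ) : Bool :=
  let A := (cand ds 1).filter fun x => x != 1
  let B := cand ds 5
  A.all fun Pl => B.all fun r => [r + (1 - Pl), r - (1 - Pl)].all fun t =>
    if t % 9 == 5 && r != t && (M : ℤ) % t == 0 then A.all fun P => test M P Pl r t else true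

theorem mem_cand {ds : List ℕ} {k x : ℤ} (hx : x.natAbs ∈ ds) (hk : x % 9 = k) :
    x ∈ cand ds k := by
  rw [cand, List.mem_filter, List.mem_append, List.mem_map, List.mem_map]
  refine ⟨?_, by simpa using hk⟩
  rcases Int.natAbs_eq x with h | h
  · exact Or.inl ⟨_, hx, h.symm⟩
  · exact Or.inr ⟨_, hx, h.symm⟩

theorem of_search {M : ℕ} {ds : List ℕ} (hs : search M ds = true)
    (hds : ∀ d, d ∣ M → d ∈ ds) {P Pl F r t : ℤ} {m : ℕ}
    (hP : P % 9 = 1) (hP1 : P ≠ 1) (hPl : Pl % 9 = 1) (hPl1 : Pl ≠ 1)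
    (hr : r % 9 = 5) (ht : t % 9 = 5) (hrt : r ≠ t) (hF : F % 18 = 4) (hF4 : F ≠ 4)
    (hFeq : 1 + 2 * P + Pl + F + r + t = 0) (ht' : t = r + (1 - Pl) ∨ t = r - (1 - Pl))
    (dP : P.natAbs ∣ M) (dPl : Pl.natAbs ∣ M) (dr : r.natAbs ∣ M) (dt : t.natAbs ∣ M)
    (hm : 1 < m) (hm9 : m % 9 = 1) (hmM : 8 * m ∣ M)
    (heq : (m : ℤ) * num P Pl F r t = 9 * den P Pl F r t) :
    m = 10 ∨ ((r = 5 ∨ t = 5) ∧ ¬ m ∣ 160) := by
  have hA : ∀ x : ℤ, x % 9 = 1 → x ≠ 1 → x.natAbs ∣ M →
      x ∈ (cand ds 1).filter fun x => x != 1 := fun x h1 h2 h3 =>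
    List.mem_filter.2 ⟨mem_cand (hds _ h3) h1, by simpa using h2⟩
  simp only [search, List.all_eq_true] at hs
  have h := hs Pl (hA Pl hPl hPl1 dPl) r (mem_cand (hds _ dr) hr) t (by
    rcases ht' with h | h <;> simp [h])
  have htM : (M : ℤ) % t = 0 :=
    Int.emod_eq_zero_of_dvd (Int.natAbs_dvd.1 (Int.natCast_dvd_natCast.2 dt))
  rw [if_pos (by simp [ht, hrt, htM]), List.all_eq_true] at h
  have h' := h P (hA P hP hP1 dP)
  have hFe : -(1 + 2 * P + Pl + r + t) = F := by linarith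
  simp only [test, hFe] at h'
  rw [if_neg (by simp [hF, hF4])] at h'
  have hne : den P Pl F r t ≠ 0 := by
    simp only [den, ne_eq, mul_eq_zero]
    omega
  have hN : num P Pl F r t ≠ 0 := fun e => by
    rw [e, mul_zero] at heq
    omega
  rw [if_neg (by simp [← heq]), ← heq, Int.mul_ediv_cancel _ hN] at h'
  have h1 : ¬ ((m : ℤ) ≤ 1) := by omega
  have h2 : (m : ℤ) % 9 = 1 := by omega
  have h3 : (M : ℤ) % (8 * (m : ℤ)) = 0 := Int.emod_eq_zero_of_dvd (by exact_mod_cast hmM)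
  rw [if_neg (by simp [h1, h2, h3])] at h'
  simp only [Bool.or_eq_true, beq_iff_eq, Bool.and_eq_true, bne_iff_ne, ne_eq] at h'
  rcases h' with h' | ⟨h', h''⟩
  · exact Or.inl (by exact_mod_cast h')
  · refine Or.inr ⟨h', fun e => h'' (Int.emod_eq_zero_of_dvd ?_)⟩
    exact_mod_cast e

/-- The divisors of `2 ^ 15 * 175`. -/
def bigList : List ℕ :=
  (List.range 16).flatMap fun i => (List.range 3).flatMap fun j => (List.range 2).map fun k =>
    2 ^ i * 5 ^ j * 7 ^ k

theorem mem_bigList {d : ℕ} (h : d ∣ 2 ^ 15 * 5 ^ 2 * 7) : d ∈ bigList := by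
  obtain ⟨x, z, hx, hz, rfl⟩ := exists_dvd_and_dvd_of_dvd_mul h
  obtain ⟨u, v, hu, hv, rfl⟩ := exists_dvd_and_dvd_of_dvd_mul hx
  obtain ⟨i, hi, rfl⟩ := (Nat.dvd_prime_pow Nat.prime_two).1 hu
  obtain ⟨j, hj, rfl⟩ := (Nat.dvd_prime_pow (by norm_num : Nat.Prime 5)).1 hv
  obtain ⟨k, hk, rfl⟩ := (Nat.dvd_prime_pow (p := 7) (m := 1) (by norm_num)).1 (by simpa using hz)
  simp only [bigList, List.mem_flatMap, List.mem_map, List.mem_range]
  exact ⟨i, by omega, j, by omega, k, by omega, rfl⟩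

theorem search_big : search (2 ^ 15 * 5 ^ 2 * 7) bigList = true := by decide +kernel

theorem search_small : ∀ k < 10,
    search (8 * (10 + 9 * k)) ((List.range (8 * (10 + 9 * k) + 1)).filter
      fun d => (8 * (10 + 9 * k)) % d == 0) = true := by
  decide +kernel

theorem inv_le_of_five {u : ℤ} (h : u % 9 = 5) (h5 : u ≠ 5) (h23 : u ≠ 14) :
    (1 : ℚ) / u ≤ 1 / 23 := by
  rcases (by omega : u < 0 ∨ 23 ≤ u) with h' | h'
  · have : (u : ℚ) < 0 := by exact_mod_cast h'
    have := div_neg_of_pos_of_neg one_pos this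
    linarith [show (0 : ℚ) ≤ 1 / 23 by norm_num]
  · exact one_div_le_one_div_of_le (by norm_num) (by exact_mod_cast h')

/-- The degree equations have no solution outside order `720`. -/
theorem eight_solve {P Pl F r t : ℤ} {m : ℕ}
    (hP : P % 9 = 1) (hP1 : P ≠ 1) (hPl : Pl % 9 = 1) (hPl1 : Pl ≠ 1)
    (hr : r % 9 = 5) (ht : t % 9 = 5) (hF : F % 18 = 4) (hF4 : F ≠ 4)
    (hFeq : 1 + 2 * P + Pl + F + r + t = 0) (hsq : (1 - Pl) ^ 2 = (r - t) ^ 2)
    (dP : P.natAbs ∣ 72 * m) (dPl : Pl.natAbs ∣ 72 * m) (dr : r.natAbs ∣ 72 * m)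
    (dt : t.natAbs ∣ 72 * m) (hm : 1 < m) (hm9 : m % 9 = 1)
    (heq : (72 * m : ℚ) * (1 + 2 / P + 1 / Pl + 16 / F - 2 * (1 / r + 1 / t)) = 648)
    (hsmall : (P = -8 ∨ Pl = -8 ∨ F = -14 ∨ r = 5 ∨ t = 5) → m ∣ 2 ^ 12 * 175)
    (hfive : (r = 5 ∨ t = 5) → m ∣ 160) : m = 10 := by
  have ht' : t = r + (1 - Pl) ∨ t = r - (1 - Pl) := by
    rcases sq_eq_sq_iff_eq_or_eq_neg.1 hsq with h | h <;> omega
  have hrt : r ≠ t := by omega
  have hint : (m : ℤ) * num P Pl F r t = 9 * den P Pl F r t := by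
    have hp : (P : ℚ) ≠ 0 := by exact_mod_cast (show P ≠ 0 by omega)
    have hl : (Pl : ℚ) ≠ 0 := by exact_mod_cast (show Pl ≠ 0 by omega)
    have hf : (F : ℚ) ≠ 0 := by exact_mod_cast (show F ≠ 0 by omega)
    have hr0 : (r : ℚ) ≠ 0 := by exact_mod_cast (show r ≠ 0 by omega)
    have ht0 : (t : ℚ) ≠ 0 := by exact_mod_cast (show t ≠ 0 by omega)
    have key : ((m : ℤ) * num P Pl F r t : ℚ) = 9 * den P Pl F r t := by
      simp only [num, den]
      field_simp at heq
      push_cast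
      linear_combination heq / 72
    exact_mod_cast key
  have h8 : ∀ x : ℤ, x.natAbs ∣ 72 * m → x % 3 ≠ 0 → x.natAbs ∣ 8 * m := by
    intro x hx h3
    refine Nat.Coprime.dvd_of_dvd_mul_left (m := 9) ?_ (by rwa [← mul_assoc])
    rw [show (9 : ℕ) = 3 ^ 2 by norm_num]
    refine Nat.Coprime.pow_right 2 ?_
    exact (Nat.prime_three.coprime_iff_not_dvd.2 (by omega)).symm
  have hend : ∀ M : ℕ, 8 * m ∣ M → ∀ ds : List ℕ, search M ds = true → (∀ d, d ∣ M → d ∈ ds) →
      m = 10 := by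
    intro M hM ds hs hds
    rcases of_search hs hds hP hP1 hPl hPl1 hr ht hrt hF hF4 hFeq ht'
        ((h8 P dP (by omega)).trans hM) ((h8 Pl dPl (by omega)).trans hM)
        ((h8 r dr (by omega)).trans hM) ((h8 t dt (by omega)).trans hM) hm hm9 hM hint with h | h
    · exact h
    · exact absurd (hfive h.1) h.2
  by_cases hs : P = -8 ∨ Pl = -8 ∨ F = -14 ∨ r = 5 ∨ t = 5
  · exact hend _ (by
      have := Nat.mul_dvd_mul_left 8 (hsmall hs)
      simpa using this) bigList search_big fun d hd => mem_bigList hd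
  push Not at hs
  obtain ⟨h1, h2, h3, h4, h5⟩ := hs
  have b1 : (-2 / 17 : ℚ) ≤ 2 / P := by
    rcases (by omega : P ≤ -17 ∨ 0 < P) with h | h
    · have : (P : ℚ) ≤ -17 := by exact_mod_cast h
      rw [le_div_iff_of_neg (by linarith)]
      linarith
    · have : (0 : ℚ) < P := by exact_mod_cast h
      have := div_pos (show (0 : ℚ) < 2 by norm_num) this
      linarith
  have b2 : (-1 / 17 : ℚ) ≤ 1 / Pl := by
    rcases (by omega : Pl ≤ -17 ∨ 0 < Pl) with h | h
    · have : (Pl : ℚ) ≤ -17 := by exact_mod_cast h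
      rw [le_div_iff_of_neg (by linarith)]
      linarith
    · have : (0 : ℚ) < Pl := by exact_mod_cast h
      have := div_pos one_pos this
      linarith
  have b3 : (-1 / 2 : ℚ) ≤ 16 / F := by
    rcases (by omega : F ≤ -32 ∨ 0 < F) with h | h
    · have : (F : ℚ) ≤ -32 := by exact_mod_cast h
      rw [le_div_iff_of_neg (by linarith)]
      linarith
    · have : (0 : ℚ) < F := by exact_mod_cast h
      have := div_pos (show (0 : ℚ) < 16 by norm_num) this
      linarith
  have b4 : (1 : ℚ) / r + 1 / t ≤ 1 / 14 + 1 / 23 := by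
    rcases eq_or_ne r 14 with e | e
    · subst e
      have := inv_le_of_five ht h5 (by omega)
      push_cast
      linarith
    · have h6 := inv_le_of_five hr h4 e
      rcases eq_or_ne t 14 with e' | e'
      · subst e'
        push_cast
        linarith
      · have := inv_le_of_five ht h5 e'
        linarith
  have hm96 : m < 100 := by
    by_contra hcon
    have hq : (100 : ℚ) ≤ m := by exact_mod_cast not_lt.1 hcon
    nlinarith
  obtain ⟨k, hk, rfl⟩ : ∃ k < 10, m = 10 + 9 * k := ⟨(m - 10) / 9, by omega, by omega⟩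
  refine hend _ dvd_rfl _ (search_small k hk) fun d hd => ?_
  rw [List.mem_filter, List.mem_range]
  exact ⟨Nat.lt_succ_of_le (Nat.le_of_dvd (by omega) hd), by
    simpa using Nat.mod_eq_zero_of_dvd hd⟩

end CfsgLib.DihedralNine
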