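import Cfsg.Agent.AutFrattini.Basic
import Mathlib.GroupTheory.Sylow
import Mathlib.GroupTheory.SpecificGroups.Dihedral
import Mathlib.GroupTheory.GroupAction.SubMulAction
import Mathlib.Data.ZMod.Basic
import Mathlib.Tactic

/-!
Self-centralizing elementary abelian Sylow `3`-subgroups of order nine with dihedral automizer of
order eight: local structure and fusion.
-/

set_option autoImplicit false
set_option linter.style.haveILetI false
set_option linter.unusedSectionVars false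

namespace CfsgLib.DihedralNine

open Subgroup

/-- Coordinates. -/
abbrev P9 := ZMod 3 × ZMod 3

/-- The class of a coordinate vector. -/
def cls (p : P9) : Bool := decide (p.1 = 0) || decide (p.2 = 0)

variable {G : Type*} [Group G] [Finite G]

set_option synthInstance.maxSize 1000 in
theorem span_aux : ∀ p q r : P9, p ≠ 0 → q ≠ 0 → cls p ≠ cls q →
    ∃ i j : Fin 3, r = (i : ℕ) • p + (j : ℕ) • q := by
  decide +kernel

/-- Rotation of the coordinates. -/
def rot (p : P9) : P9 := (-p.2, p.1)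

theorem rot_transitive : ∀ p q : P9, p ≠ 0 → q ≠ 0 → cls p = cls q →
    ∃ i : Fin 4, rot^[(i : ℕ)] p = q := by
  decide +kernel

/-- The local data. -/
structure Setup (G : Type*) [Group G] where
  T : Subgroup G
  sylow : ∃ S : Sylow 3 G, (S : Subgroup G) = T
  e : P9 → G
  e_zero : e 0 = 1
  e_add : ∀ p q, e (p + q) = e p * e q
  e_inj : Function.Injective e
  e_mem : ∀ p, e p ∈ T
  e_surj : ∀ x ∈ T, ∃ p, e p = x
  cent : centralizer (T : Set G) = T
  loc : ∀ x ∈ T, x ≠ 1 → centralizer ({x} : Set G) ≤ normalizer (T : Set G)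
  rho : G
  sigma : G
  rho_act : ∀ p : P9, rho * e p * rho⁻¹ = e (rot p)
  sigma_act : ∀ p : P9, sigma * e p * sigma⁻¹ = e (p.1, -p.2)
  sigma_sq : sigma * sigma = 1
  rs_sq : rho * sigma * (rho * sigma) = 1
  sigma_z : Commute sigma (rho * rho)
  rs_z : Commute (rho * sigma) (rho * rho)
  act : ∀ g ∈ normalizer (T : Set G), ∀ p : P9, ∃ q, g * e p * g⁻¹ = e q ∧ cls q = cls p
  card_N : Nat.card (normalizer (T : Set G)) = 72

namespace Setup

variable (D : Setup G)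

local notation "N₀" => normalizer (D.T : Set G)

theorem e_comm (p q : P9) : D.e p * D.e q = D.e q * D.e p := by
  rw [← D.e_add, ← D.e_add, add_comm]

theorem e_neg (p : P9) : D.e (-p) = (D.e p)⁻¹ :=
  eq_inv_of_mul_eq_one_left (by rw [← D.e_add, neg_add_cancel, D.e_zero])

theorem e_cube (p : P9) : D.e p ^ 3 = 1 := by
  rw [pow_succ, pow_two, ← D.e_add, ← D.e_add,
    show p + p + p = 0 by revert p; decide, D.e_zero]

theorem e_eq_one {p : P9} : D.e p = 1 ↔ p = 0 := by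
  rw [← D.e_zero]; exact D.e_inj.eq_iff

theorem card_T : Nat.card D.T = 9 := by
  have h : Function.Bijective (fun p : P9 => (⟨D.e p, D.e_mem p⟩ : ↥D.T)) :=
    ⟨fun p q e => D.e_inj (congrArg Subtype.val e), fun x => by
      obtain ⟨p, hp⟩ := D.e_surj x x.2
      exact ⟨p, Subtype.ext hp⟩⟩
  rw [← Nat.card_congr (Equiv.ofBijective _ h)]
  simp

theorem T_comm {x y : G} (hx : x ∈ D.T) (hy : y ∈ D.T) : x * y = y * x := by
  obtain ⟨p, rfl⟩ := D.e_surj x hx
  obtain ⟨q, rfl⟩ := D.e_surj y hy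
  exact D.e_comm p q

theorem mem_N_of_conj {g x : G} (hx : x ∈ D.T) (hx1 : x ≠ 1) (hgx : g * x * g⁻¹ ∈ D.T) :
    g ∈ N₀ := by
  have hne : g * x * g⁻¹ ≠ 1 := fun e => hx1 (conj_eq_one_iff.1 e)
  have hle : D.T.map (MulAut.conj g).toMonoidHom ≤ N₀ := by
    rintro _ ⟨y, hy, rfl⟩
    refine D.loc _ hgx hne (mem_centralizer_singleton_iff.2 ?_)
    show g * y * g⁻¹ * (g * x * g⁻¹) = g * x * g⁻¹ * (g * y * g⁻¹)
    calc g * y * g⁻¹ * (g * x * g⁻¹) = g * (y * x) * g⁻¹ := by group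
      _ = g * (x * y) * g⁻¹ := by rw [D.T_comm hy hx]
      _ = _ := by group
  obtain ⟨S, hS⟩ := D.sylow
  have hp : IsPGroup 3 ↥(D.T.map (MulAut.conj g).toMonoidHom) := (hS ▸ S.2).map _
  have hsup : IsPGroup 3 ↥(D.T.map (MulAut.conj g).toMonoidHom ⊔ D.T) :=
    hp.to_sup_of_normal_right' (hS ▸ S.2) hle
  have := S.3 hsup (hS ▸ le_sup_right)
  rw [hS] at this
  rw [mem_normalizer_iff]
  intro y
  have hcard : Nat.card ↥(D.T.map (MulAut.conj g).toMonoidHom) = Nat.card ↥D.T :=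
    card_map_of_injective (MulAut.conj g).injective
  have he := eq_of_le_of_card_ge (le_sup_left.trans this.le) hcard.ge
  conv_rhs => rw [← he]
  exact (mem_map_iff_mem (f := (MulAut.conj g).toMonoidHom) (MulAut.conj g).injective).symm

theorem rho_pow_act (i : ℕ) (p : P9) : D.rho ^ i * D.e p * (D.rho ^ i)⁻¹ = D.e (rot^[i] p) := by
  induction i with
  | zero => simp
  | succ i ih =>
    rw [Function.iterate_succ_apply', ← D.rho_act, ← ih, pow_succ']
    group

theorem rot_mem (p : P9) : ∀ g ∈ ({D.rho, D.sigma} : Set G), g * D.e p * g⁻¹ ∈ D.T := by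
  rintro g (rfl | rfl)
  · rw [D.rho_act]; exact D.e_mem _
  · rw [D.sigma_act]; exact D.e_mem _

theorem gen_mem_N : D.rho ∈ N₀ ∧ D.sigma ∈ N₀ := by
  constructor <;> refine mem_normalizer_fintype fun x hx => ?_ <;>
    obtain ⟨p, rfl⟩ := D.e_surj x hx
  · exact D.rot_mem p _ (Or.inl rfl)
  · exact D.rot_mem p _ (Or.inr rfl)

theorem isConj_iff_cls {p q : P9} (hp : p ≠ 0) :
    IsConj (D.e p) (D.e q) ↔ q ≠ 0 ∧ cls p = cls q := by
  constructor
  · intro h
    obtain ⟨g, hg⟩ := isConj_iff.1 h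
    have hgN : g ∈ N₀ := D.mem_N_of_conj (D.e_mem p) (fun e => hp (D.e_eq_one.1 e))
      (hg ▸ D.e_mem q)
    obtain ⟨r, hr, hr'⟩ := D.act g hgN p
    have hqr := D.e_inj (hg.symm.trans hr)
    refine ⟨fun e => hp (D.e_eq_one.1 ?_), hqr ▸ hr'.symm⟩
    rw [e, D.e_zero] at hg
    exact conj_eq_one_iff.1 hg
  · rintro ⟨hq, h⟩
    obtain ⟨i, hi⟩ := rot_transitive p q hp hq h
    exact isConj_iff.2 ⟨D.rho ^ (i : ℕ), by rw [D.rho_pow_act, hi]⟩

theorem isConj_inv {p : P9} : IsConj (D.e p) (D.e p)⁻¹ := by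
  rw [← D.e_neg]
  by_cases hp : p = 0
  · subst hp; rw [neg_zero]
  · exact (D.isConj_iff_cls hp).2 (by revert p; decide)

theorem card_centralizer {p : P9} (hp : p ≠ 0) :
    Nat.card (centralizer ({D.e p} : Set G)) = 18 := by
  classical
  letI : Fintype ↥N₀ := Fintype.ofFinite _
  -- the orbit of `p` under the normaliser has four points
  let f : ↥N₀ → P9 := fun g => (D.act g g.2 p).choose
  have hf : ∀ g : ↥N₀, (g : G) * D.e p * (g : G)⁻¹ = D.e (f g) ∧ cls (f g) = cls p := fun g =>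
    (D.act g g.2 p).choose_spec
  have hfib : ∀ q ∈ (Finset.univ.filter fun q : P9 => q ≠ 0 ∧ cls q = cls p),
      (Finset.univ.filter fun g : ↥N₀ => f g = q).card =
        Nat.card (centralizer ({D.e p} : Set G)) := by
    intro q hq
    obtain ⟨hq0, hqc⟩ := (Finset.mem_filter.1 hq).2
    obtain ⟨g₀, hg₀⟩ : ∃ g : ↥N₀, (g : G) * D.e p * (g : G)⁻¹ = D.e q := by
      obtain ⟨i, hi⟩ := rot_transitive p q hp hq0 hqc.symm
      exact ⟨⟨D.rho ^ (i : ℕ), pow_mem D.gen_mem_N.1 _⟩, by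
        show D.rho ^ (i : ℕ) * D.e p * (D.rho ^ (i : ℕ))⁻¹ = _
        rw [D.rho_pow_act, hi]⟩
    have hC : ∀ c ∈ centralizer ({D.e p} : Set G), c ∈ N₀ := fun c hc =>
      D.loc _ (D.e_mem p) (fun e => hp (D.e_eq_one.1 e)) hc
    rw [← Fintype.card_subtype, ← Nat.card_eq_fintype_card]
    refine Nat.card_congr
      { toFun := fun g => ⟨(g₀ : G)⁻¹ * (g.1 : G), mem_centralizer_singleton_iff.2 ?_⟩
        invFun := fun c => ⟨g₀ * ⟨c.1, hC c.1 c.2⟩, D.e_inj ?_⟩
        left_inv := fun g => Subtype.ext (Subtype.ext (by simp))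
        right_inv := fun c => Subtype.ext (by simp) }
    · have h := (hf g.1).1.trans ((congrArg D.e g.2).trans hg₀.symm)
      calc (g₀ : G)⁻¹ * (g.1 : G) * D.e p
          = (g₀ : G)⁻¹ * ((g.1 : G) * D.e p * (g.1 : G)⁻¹) * (g.1 : G) := by group
        _ = D.e p * ((g₀ : G)⁻¹ * (g.1 : G)) := by rw [h]; group
    · rw [← (hf _).1, ← hg₀]
      have hc := mem_centralizer_singleton_iff.1 c.2
      calc (g₀ : G) * c.1 * D.e p * ((g₀ : G) * c.1)⁻¹
          = (g₀ : G) * (c.1 * D.e p * c.1⁻¹) * (g₀ : G)⁻¹ := by group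
        _ = _ := by rw [mul_inv_eq_iff_eq_mul.2 hc]
  have h := Finset.card_eq_sum_card_fiberwise (f := f) (s := Finset.univ)
    (t := Finset.univ.filter fun q : P9 => q ≠ 0 ∧ cls q = cls p) fun g _ => by
      refine Finset.mem_coe.2 (Finset.mem_filter.2 ⟨Finset.mem_univ _, fun e => hp ?_, (hf g).2⟩)
      have := (hf g).1
      rw [e, D.e_zero, conj_eq_one_iff] at this
      exact D.e_eq_one.1 this
  rw [Finset.sum_congr rfl hfib, Finset.sum_const, smul_eq_mul, Finset.card_univ,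
    ← Nat.card_eq_fintype_card, D.card_N] at h
  have h4 : (Finset.univ.filter fun q : P9 => q ≠ 0 ∧ cls q = cls p).card = 4 := by
    clear h hfib hf f
    revert p; decide
  rw [h4] at h
  omega

/-- Three-elements of the normaliser lie in `T`. -/
theorem mem_T_of_mem_N {x : G} (hx : x ^ 3 = 1) (hxN : x ∈ N₀) : x ∈ D.T := by
  obtain ⟨S, hS⟩ := D.sylow
  have hp : IsPGroup 3 ↥(zpowers x) := fun ⟨w, hw⟩ => ⟨1, Subtype.ext (by
    obtain ⟨j, rfl⟩ := Subgroup.mem_zpowers_iff.1 hw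
    show (x ^ j) ^ (3 ^ 1) = 1
    rw [pow_one, ← zpow_natCast (x ^ j) 3, ← zpow_mul, mul_comm, zpow_mul, zpow_natCast, hx,
      one_zpow])⟩
  have hsup : IsPGroup 3 ↥(zpowers x ⊔ D.T) :=
    hp.to_sup_of_normal_right' (hS ▸ S.2) (zpowers_le.2 hxN)
  have := S.3 hsup (hS ▸ le_sup_right)
  rw [hS] at this
  exact (le_sup_left.trans this.le) (mem_zpowers _)

/-- The index of the normaliser is one modulo nine. -/
theorem index_mod : (N₀).index % 9 = 1 := by
  classical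
  set o : G ⧸ N₀ := ((1 : G) : G ⧸ N₀)
  have hfix : ∀ t ∈ D.T, t ≠ 1 → ∀ q : G ⧸ N₀, t • q = q → q = o := by
    intro t ht ht1 q hq
    induction q using QuotientGroup.induction_on with
    | _ g =>
      rw [MulAction.Quotient.smul_coe, QuotientGroup.eq, smul_eq_mul] at hq
      have hs : g⁻¹ * t * g ∈ N₀ := by
        have := inv_mem hq
        simpa [mul_assoc] using this
      have h3 : (g⁻¹ * t * g) ^ 3 = 1 := by
        obtain ⟨c, rfl⟩ := D.e_surj t ht
        rw [show g⁻¹ * D.e c * g = g⁻¹ * D.e c * g⁻¹⁻¹ by rw [inv_inv], conj_pow, D.e_cube]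
        group
      have hg := D.mem_N_of_conj (g := g⁻¹) ht ht1
        (by simpa [mul_assoc] using D.mem_T_of_mem_N h3 hs)
      exact QuotientGroup.eq.2 (by simpa using inv_mem (inv_mem_iff.1 hg))
  have ho : ∀ t : ↥D.T, (t : G) • o = o := fun t => by
    rw [MulAction.Quotient.smul_coe, QuotientGroup.eq, smul_eq_mul]
    simpa using le_normalizer t.2
  let X : SubMulAction ↥D.T (G ⧸ N₀) :=
    { carrier := {q | q ≠ o}
      smul_mem' := fun t q hq e => hq (by
        have h := congrArg ((t⁻¹ : ↥D.T) • ·) e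
        simp only [inv_smul_smul] at h
        rw [h]
        exact ho t⁻¹) }
  have hdvd : Nat.card ↥D.T ∣ Nat.card ↥X := CfsgLib.AutFrattini.card_dvd_of_free fun t q h => by
    by_contra h1
    exact q.2 (hfix t t.2 (fun e => h1 (Subtype.ext e)) q.1 (congrArg Subtype.val h))
  rw [D.card_T] at hdvd
  have hX : Nat.card ↥X = (N₀).index - 1 := by
    rw [index_eq_card, show (Nat.card ↥X) = ({o}ᶜ : Set (G ⧸ N₀)).ncard from
      (Nat.card_coe_set_eq _).symm ▸ rfl, Set.ncard_compl, Set.ncard_singleton]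
  have hpos : 0 < (N₀).index := Nat.pos_of_ne_zero index_ne_zero_of_finite
  rw [hX] at hdvd
  omega

theorem exists_conj_le {R : Subgroup G} (hR : IsPGroup 3 R) :
    ∃ g : G, ∀ x ∈ R, g * x * g⁻¹ ∈ D.T := by
  obtain ⟨S, hS⟩ := D.sylow
  obtain ⟨S', hS'⟩ := hR.exists_le_sylow
  obtain ⟨g, hg⟩ := MulAction.exists_smul_eq G S' S
  refine ⟨g, fun x hx => ?_⟩
  rw [← hS, ← hg]
  exact ⟨x, hS' hx, rfl⟩

theorem exists_conj_mem {x : G} (hx : x ^ 3 = 1) : ∃ g : G, g * x * g⁻¹ ∈ D.T := by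
  obtain ⟨g, hg⟩ := D.exists_conj_le (R := zpowers x) fun ⟨y, hy⟩ => ⟨1, Subtype.ext (by
    obtain ⟨j, rfl⟩ := Subgroup.mem_zpowers_iff.1 hy
    show (x ^ j) ^ (3 ^ 1) = 1
    rw [pow_one, ← zpow_natCast (x ^ j) 3, ← zpow_mul, mul_comm, zpow_mul, zpow_natCast, hx,
      one_zpow])⟩
  exact ⟨g, hg x (mem_zpowers x)⟩

/-- In an abelian group of order prime to three, twisting by an element of order three. -/
theorem conj_of_coset {A : Subgroup G} (hA : ∀ a ∈ A, ∀ b ∈ A, a * b = b * a) {M : ℕ}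
    (hM : M.Coprime 3) (hpow : ∀ a ∈ A, a ^ M = 1) {u w : G}
    (hu : ∀ a ∈ A, u * a * u⁻¹ ∈ A) (hu3 : u ^ 3 = 1) (hw : w ∈ A) (hwu : (w * u) ^ 3 = 1) :
    IsConj u (w * u) := by
  set c := u * w * u⁻¹ with hc
  set d := u * c * u⁻¹ with hd
  have hcA : c ∈ A := hu w hw
  have hdA : d ∈ A := hu c hcA
  have hwcd : w * c * d = 1 := by
    rw [← hwu, pow_succ, pow_two, hd, hc]
    calc _ = w * u * w * (u * w) * u⁻¹ * u⁻¹ * (u ^ 3) := by rw [hu3]; group
      _ = _ := by group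
  obtain ⟨k, hk⟩ := exists_pow_eq_self_of_coprime (x := (w * w * c : G)) (n := 3)
    ((Nat.Coprime.coprime_dvd_left (orderOf_dvd_of_pow_eq_one
      (hpow _ (mul_mem (mul_mem hw hw) hcA))) hM).symm)
  set q := w * w * c with hq
  have hqA : q ∈ A := mul_mem (mul_mem hw hw) hcA
  -- `q` is a cube of `v`
  set v := q ^ k with hv
  have hvA : v ∈ A := pow_mem hqA k
  have hv3 : v ^ 3 = q := by rw [hv, ← pow_mul, mul_comm, pow_mul]; exact hk
  have hcv : u * v * u⁻¹ = (u * q * u⁻¹) ^ k := by rw [hv, conj_pow]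
  have hsv : (u * v * u⁻¹) ^ 3 = c * c * d := by
    rw [conj_pow, hv3, hd, hq, hc]; group
  set r := v * (u * v * u⁻¹)⁻¹ with hr
  have hrA : r ∈ A := mul_mem hvA (inv_mem (hu v hvA))
  have hr3 : r ^ 3 = w ^ 3 := by
    have hcm : Commute v (u * v * u⁻¹)⁻¹ := hA v hvA _ (inv_mem (hu v hvA))
    rw [hr, hcm.mul_pow, inv_pow, hv3, hsv, hq]
    calc w * w * c * (c * c * d)⁻¹ = w * w * c * (c * d)⁻¹ * c⁻¹ := by group
      _ = w * w * c * w * c⁻¹ := by rw [show (c * d)⁻¹ = w from inv_eq_of_mul_eq_one_left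
            (by rw [← mul_assoc]; exact hwcd)]
      _ = w ^ 3 := by
          rw [mul_assoc (w * w) c w, hA c hcA w hw]
          simp [pow_succ, mul_assoc]
  have hrw : r = w := by
    have h1 : (r * w⁻¹) ^ 3 = 1 := by
      rw [(show Commute r w⁻¹ from hA r hrA _ (inv_mem hw)).mul_pow, inv_pow, hr3, mul_inv_cancel]
    have h2 : (r * w⁻¹) ^ M = 1 := hpow _ (mul_mem hrA (inv_mem hw))
    exact mul_inv_eq_one.1 (orderOf_eq_one_iff.1 (Nat.eq_one_of_dvd_coprimes hM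
      (orderOf_dvd_of_pow_eq_one h2) (orderOf_dvd_of_pow_eq_one h1)))
  refine isConj_iff.2 ⟨v, ?_⟩
  conv_rhs => rw [← hrw, hr]
  group

/-- Non-conjugate elements of order three with product of order three lie in a common conjugate
of `T`. -/
theorem common_conj {x y : G} (hx : x ^ 3 = 1) (hy : y ^ 3 = 1) (hxy : (x * y) ^ 3 = 1)
    (hx1 : x ≠ 1) (hy1 : y ≠ 1) (hne : ¬ IsConj x y) :
    ∃ g : G, g * x * g⁻¹ ∈ D.T ∧ g * y * g⁻¹ ∈ D.T := by
  have hy2 : y⁻¹ * y⁻¹ = y := by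
    calc y⁻¹ * y⁻¹ = y ^ 3 * (y⁻¹ * y⁻¹) := by rw [hy, one_mul]
      _ = y := by group
  have hx2 : x⁻¹ * x⁻¹ = x := by
    calc x⁻¹ * x⁻¹ = x ^ 3 * (x⁻¹ * x⁻¹) := by rw [hx, one_mul]
      _ = x := by group
  set p := x * y⁻¹ with hp
  set q := y⁻¹ * x with hq
  have hxyx : y⁻¹ * x⁻¹ * y⁻¹ = x * y * x := by
    calc y⁻¹ * x⁻¹ * y⁻¹ = (x * y) ^ 3 * (y⁻¹ * x⁻¹ * y⁻¹) := by rw [hxy, one_mul]
      _ = x * y * x := by simp [pow_succ, mul_assoc]
  have hxx : x * x = x⁻¹ := by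
    calc x * x = x ^ 3 * x⁻¹ := by simp [pow_succ, mul_assoc]
      _ = x⁻¹ := by rw [hx, one_mul]
  have hpq : p * q = q * p := by
    calc p * q = x * (y⁻¹ * y⁻¹) * x := by rw [hp, hq]; group
      _ = x * y * x := by rw [hy2]
      _ = y⁻¹ * x⁻¹ * y⁻¹ := hxyx.symm
      _ = y⁻¹ * (x * x) * y⁻¹ := by rw [hxx]
      _ = q * p := by rw [hp, hq]; group
  set A := closure ({p, q} : Set G) with hAdef
  have hA : ∀ a ∈ A, ∀ b ∈ A, a * b = b * a := by
    have := Subgroup.isMulCommutative_closure (k := ({p, q} : Set G)) (by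
      rintro a (rfl | rfl) b (rfl | rfl) <;> first | rfl | exact hpq | exact hpq.symm)
    exact fun a ha b hb => congrArg Subtype.val (mul_comm' (⟨a, ha⟩ : ↥A) ⟨b, hb⟩)
  have hpA : p ∈ A := subset_closure (by simp)
  have hqA : q ∈ A := subset_closure (by simp)
  have hxA : ∀ a ∈ A, x * a * x⁻¹ ∈ A := by
    have hle : A.map (MulAut.conj x).toMonoidHom ≤ A := by
      rw [hAdef, MonoidHom.map_closure, closure_le]
      rintro _ ⟨w, hw, rfl⟩
      show x * w * x⁻¹ ∈ A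
      rcases hw with rfl | rfl
      · have : x * p * x⁻¹ = (p * q)⁻¹ := by
          calc x * p * x⁻¹ = (x * x) * y⁻¹ * x⁻¹ := by rw [hp]; group
            _ = x⁻¹ * y⁻¹ * x⁻¹ := by rw [hxx]
            _ = (x * (y⁻¹ * y⁻¹) * x)⁻¹ := by rw [hy2]; group
            _ = (p * q)⁻¹ := by rw [hp, hq]; group
        rw [this]
        exact inv_mem (mul_mem hpA hqA)
      · have : x * q * x⁻¹ = p := by rw [hp, hq]; group
        rw [this]; exact hpA
    exact fun a ha => hle ⟨a, ha, rfl⟩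
  -- primary parts of `A`
  obtain ⟨k, M, hM3, hcardA⟩ := Nat.exists_eq_pow_mul_and_not_dvd
    (Nat.card_pos (α := A)).ne' 3 (by norm_num)
  have hMco : M.Coprime 3 := (Nat.prime_three.coprime_iff_not_dvd.2 hM3).symm
  have hpowA : ∀ a ∈ A, a ^ (3 ^ k * M) = 1 := fun a ha => by
    rw [← hcardA]; exact congrArg Subtype.val (pow_card_eq_one' (x := (⟨a, ha⟩ : ↥A)))
  let part : ℕ → Subgroup G := fun m =>
    { carrier := {a | a ∈ A ∧ a ^ m = 1}
      one_mem' := ⟨one_mem A, one_pow m⟩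
      mul_mem' := fun {a b} ha hb => ⟨mul_mem ha.1 hb.1, by
        rw [(show Commute a b from hA a ha.1 b hb.1).mul_pow, ha.2, hb.2, one_mul]⟩
      inv_mem' := fun {a} ha => ⟨inv_mem ha.1, by rw [inv_pow, ha.2, inv_one]⟩ }
  have hxpart : ∀ m, ∀ a ∈ part m, x * a * x⁻¹ ∈ part m := fun m a ha =>
    ⟨hxA a ha.1, by rw [conj_pow, ha.2, mul_one, mul_inv_cancel]⟩
  obtain ⟨p₀, hp₀, p₃, hp₃, hp03⟩ : ∃ p₀ ∈ part M, ∃ p₃ ∈ part (3 ^ k), p = p₃ * p₀ := by
    have hb : ((3 ^ k).gcd M : ℤ) = 1 := by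
      exact_mod_cast Nat.Coprime.pow_left k hMco.symm
    rw [Nat.gcd_eq_gcd_ab] at hb
    refine ⟨p ^ (((3 ^ k : ℕ) : ℤ) * Nat.gcdA (3 ^ k) M), ⟨zpow_mem hpA _, ?_⟩,
      p ^ ((M : ℤ) * Nat.gcdB (3 ^ k) M), ⟨zpow_mem hpA _, ?_⟩, ?_⟩
    · rw [← zpow_natCast, ← zpow_mul, show ((3 ^ k : ℕ) : ℤ) * Nat.gcdA (3 ^ k) M * (M : ℤ) =
        ((3 ^ k * M : ℕ) : ℤ) * Nat.gcdA (3 ^ k) M by push_cast; ring, zpow_mul, zpow_natCast,
        hpowA p hpA, one_zpow]
    · rw [← zpow_natCast, ← zpow_mul, show (M : ℤ) * Nat.gcdB (3 ^ k) M * ((3 ^ k : ℕ) : ℤ) =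
        ((3 ^ k * M : ℕ) : ℤ) * Nat.gcdB (3 ^ k) M by push_cast; ring, zpow_mul, zpow_natCast,
        hpowA p hpA, one_zpow]
    · rw [← zpow_add, add_comm, hb, zpow_one]
  set R := part (3 ^ k) ⊔ zpowers x with hR
  have hzx : IsPGroup 3 ↥(zpowers x) := fun ⟨w, hw⟩ => ⟨1, Subtype.ext (by
    obtain ⟨j, rfl⟩ := Subgroup.mem_zpowers_iff.1 hw
    show (x ^ j) ^ (3 ^ 1) = 1
    rw [pow_one, ← zpow_natCast (x ^ j) 3, ← zpow_mul, mul_comm, zpow_mul, zpow_natCast, hx,
      one_zpow])⟩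
  have hRp : IsPGroup 3 ↥R := by
    refine IsPGroup.to_sup_of_normal_left' (fun ⟨a, ha⟩ => ⟨k, Subtype.ext ha.2⟩) hzx
      (zpowers_le.2 (mem_normalizer_fintype (hxpart (3 ^ k))))
  obtain ⟨g, hg⟩ := D.exists_conj_le hRp
  set y' := p₃⁻¹ * x with hy'
  have hy'R : y' ∈ R := mul_mem (inv_mem (mem_sup_left hp₃)) (mem_sup_right (mem_zpowers x))
  have hy'3 : y' ^ 3 = 1 := by
    obtain ⟨c, hc⟩ := D.e_surj _ (hg y' hy'R)
    have h := D.e_cube c
    rw [hc, conj_pow] at h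
    exact conj_eq_one_iff.1 h
  have hyy' : y = p₀⁻¹ * y' := by
    calc y = (x * y⁻¹)⁻¹ * x := by group
      _ = (p₃ * p₀)⁻¹ * x := by rw [← hp, hp03]
      _ = p₀⁻¹ * y' := by rw [hy']; group
  have hA0A : ∀ a ∈ part M, ∀ b ∈ part M, a * b = b * a := fun a ha b hb => hA a ha.1 b hb.1
  have hy'part : ∀ a ∈ part M, y' * a * y'⁻¹ ∈ part M := fun a ha => by
    have h1 := hxpart M a ha
    have : y' * a * y'⁻¹ = x * a * x⁻¹ := by
      calc y' * a * y'⁻¹ = p₃⁻¹ * (x * a * x⁻¹) * p₃ := by rw [hy']; group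
        _ = p₃⁻¹ * p₃ * (x * a * x⁻¹) := by rw [mul_assoc, hA _ h1.1 p₃ hp₃.1, ← mul_assoc]
        _ = _ := by rw [inv_mul_cancel, one_mul]
    rwa [this]
  have hconj : IsConj y' y := by
    rw [hyy']
    exact conj_of_coset (A := part M) hA0A hMco (fun a ha => ha.2) hy'part hy'3 (inv_mem hp₀)
      (by rw [← hyy']; exact hy)
  -- coordinates of `x` and `y'`
  obtain ⟨cx, hcx⟩ := D.e_surj _ (hg x (mem_sup_right (mem_zpowers x)))
  obtain ⟨cy, hcy⟩ := D.e_surj _ (hg y' hy'R)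
  have hcx0 : cx ≠ 0 := fun e => hx1 (conj_eq_one_iff.1 (hcx.symm.trans (D.e_eq_one.2 e)))
  have hcy0 : cy ≠ 0 := fun e => by
    have := conj_eq_one_iff.1 (hcy.symm.trans (D.e_eq_one.2 e))
    exact hy1 (isConj_one_right.1 (this ▸ hconj))
  have hcls : cls cx ≠ cls cy := fun e => hne
    (((isConj_iff.2 ⟨g, hcx.symm⟩).trans ((D.isConj_iff_cls hcx0).2 ⟨hcy0, e⟩)).trans
      (IsConj.trans (IsConj.symm (isConj_iff.2 (⟨g, hcy.symm⟩ : ∃ c : G, c * y' * c⁻¹ = D.e cy))) hconj))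
  -- the part of order prime to three is trivial
  have hone : ∀ v ∈ part M, v = 1 := by
    set u := p₃ with hu
    have hu1 : g * u * g⁻¹ = D.e (cx - cy) := by
      rw [sub_eq_add_neg, D.e_add, D.e_neg, hcx, hcy, hy', hu]; group
    have hcu : cx - cy ≠ 0 := fun e => hcls (by rw [sub_eq_zero.1 e])
    set cg := MulAut.conj g
    have hA0C : (part M).map cg.toMonoidHom ≤ centralizer ({D.e (cx - cy)} : Set G) := by
      rintro _ ⟨a, ha, rfl⟩
      rw [mem_centralizer_singleton_iff, ← hu1]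
      show g * a * g⁻¹ * (g * u * g⁻¹) = g * u * g⁻¹ * (g * a * g⁻¹)
      calc g * a * g⁻¹ * (g * u * g⁻¹) = g * (a * u) * g⁻¹ := by group
        _ = g * (u * a) * g⁻¹ := by rw [hA a ha.1 u hp₃.1]
        _ = _ := by group
    have hdvd : Nat.card (part M) ∣ 18 := by
      rw [← card_map_of_injective (K := part M) (f := cg.toMonoidHom) (MulAut.conj g).injective]
      refine (card_dvd_of_le hA0C).trans ?_
      rw [D.card_centralizer hcu]
    have hp2 : ∀ v ∈ part M, v ^ 2 = 1 := fun v hv => by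
      refine orderOf_dvd_iff_pow_eq_one.1 ?_
      have h1 : orderOf v ∣ 18 := (Subgroup.orderOf_dvd_natCard _ hv).trans hdvd
      have h2 : (orderOf v).Coprime 9 := (Nat.Coprime.coprime_dvd_left
        (orderOf_dvd_of_pow_eq_one hv.2) hMco).pow_right 2
      exact h2.dvd_of_dvd_mul_left (show orderOf v ∣ 9 * 2 from h1)
    have hle2 : Nat.card (part M) ≤ 2 := by
      have hco : (Nat.card (part M)).Coprime 9 := by
        refine Nat.Coprime.pow_right 2 (Nat.prime_three.coprime_iff_not_dvd.2 fun h3 => ?_).symm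
        haveI : Fact (Nat.Prime 3) := ⟨Nat.prime_three⟩
        obtain ⟨w, hw⟩ := exists_prime_orderOf_dvd_card' 3 h3
        have := orderOf_dvd_of_pow_eq_one (Subtype.ext (hp2 w w.2) : w ^ 2 = 1)
        rw [hw] at this
        norm_num at this
      exact Nat.le_of_dvd two_pos (hco.dvd_of_dvd_mul_left hdvd)
    intro v hv
    by_contra hv1
    have hvx : x * v * x⁻¹ = v := by
      by_contra hne'
      have : ({1, v, x * v * x⁻¹} : Set G).ncard = 3 := by
        rw [Set.ncard_eq_three]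
        exact ⟨1, v, x * v * x⁻¹, Ne.symm hv1, fun e => hv1 (conj_eq_one_iff.1 e.symm),
          Ne.symm hne', rfl⟩
      have hsub : ({1, v, x * v * x⁻¹} : Set G) ⊆ (part M : Set G) := by
        rintro w (rfl | rfl | rfl)
        · exact one_mem _
        · exact hv
        · exact hxpart M v hv
      have := Set.ncard_le_ncard hsub (Set.toFinite _)
      rw [← SetLike.coe_sort_coe, Nat.card_coe_set_eq] at hle2
      omega
    have hvy : y' * v * y'⁻¹ = v := by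
      calc y' * v * y'⁻¹ = u⁻¹ * (x * v * x⁻¹) * u := by rw [hy']; group
        _ = u⁻¹ * (v * u) := by rw [hvx, mul_assoc]
        _ = v := by rw [hA v hv.1 u hp₃.1, inv_mul_cancel_left]
    set w := g * v * g⁻¹ with hw
    have cX : Commute w (D.e cx) := by
      rw [hcx, hw]
      exact (Commute.conj_iff g).2 (mul_inv_eq_iff_eq_mul.1 hvx).symm
    have cY : Commute w (D.e cy) := by
      rw [hcy, hw]
      exact (Commute.conj_iff g).2 (mul_inv_eq_iff_eq_mul.1 hvy).symm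
    have hwT : w ∈ D.T := by
      rw [← D.cent, mem_centralizer_iff]
      intro t ht
      obtain ⟨c, rfl⟩ := D.e_surj t ht
      obtain ⟨i, j, rfl⟩ : ∃ i j : Fin 3, c = (i : ℕ) • cx + (j : ℕ) • cy :=
        span_aux cx cy c hcx0 hcy0 hcls
      have hpow : ∀ (d : P9) (i : ℕ), D.e (i • d) = D.e d ^ i := by
        intro d i
        induction i with
        | zero => rw [zero_nsmul, D.e_zero, pow_zero]
        | succ i ih => rw [succ_nsmul, D.e_add, ih, pow_succ]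
      rw [D.e_add, hpow, hpow]
      exact ((cX.pow_right _).mul_right (cY.pow_right _)).eq.symm
    obtain ⟨c, hc⟩ := D.e_surj w hwT
    have h3 : v ^ 3 = 1 := by
      have h := D.e_cube c
      rw [hc, hw, conj_pow] at h
      exact conj_eq_one_iff.1 h
    exact hv1 (by rw [← pow_one v, show 1 = 3 - 2 from rfl, pow_sub v (by norm_num : 2 ≤ 3), h3,
      hp2 v hv, one_mul, inv_one])
  refine ⟨g, hg x (mem_sup_right (mem_zpowers x)), ?_⟩
  rw [hyy', hone p₀ hp₀, inv_one, one_mul]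
  exact hg y' hy'R

end Setup

end CfsgLib.DihedralNine
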